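import Cfsg.Agent.H564.PglTool
import Cfsg.Agent.H868.KTwD4
import Cfsg.Agent.H129.TwD4Cyc
import Cfsg.Agent.H378.TwRows
import Cfsg.Agent.S2129

/-!
# Row `³D₄(u)` for the recognition of `PGL_2(q)` by spectrum (helper564, for S3447)
-/

set_option autoImplicit false

namespace Cfsg.Agent.H564.PglD4

open Subgroup Cfsg Cfsg.Lie Cfsg.Agent.H369.Pgl Cfsg.Agent.H564.NearTwo Cfsg.Agent.H94.PG Cfsg.Agent.H564.PglTool
open Cfsg.Agent.H92.KTools Cfsg.Agent.H92.ExcSL2 Cfsg.Agent.H92.ExcOrd Cfsg.Agent.H868.KSL2 Cfsg.Agent.H868.KTwD4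
open Cfsg.Agent.ChevalleyStructure Cfsg.Agent.ChevalleyStructure.Elts Cfsg.Agent.ChevalleyStructure.SL2Hom

section D

variable {K : Type} [Field K] {φ : K →+* K} {q : ℕ}

/-- element of order 3 in the long `SL₂` times an element of the short one -/
theorem ord_three_mul (hφ : ∀ x, φ x = x ^ q) {g : SL2 K} {n : ℕ} (hg : orderOf g = n) (hn : Odd n)
    (h3n : Nat.Coprime 3 n) : HasOrd (twistedD4 K q) (3 * n) := by
  refine hasOrd_AB (m := 3) (n := n) hφ ?_ (A_thr_mem hφ) (g := g) ?_ h3n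
  · rw [(kerPM_ph hD4 l23).orderOf_eq _ (by rw [orderOf_thr]; decide), orderOf_thr]
  · rw [(kerPM_B φ).orderOf_eq _ (by rw [hg]; exact hn), hg]

/-- order 12 -/
theorem ord_twelve (hφ : ∀ x, φ x = x ^ q) (h2 : (2 : K) ≠ 0) : HasOrd (twistedD4 K q) (3 * 4) := by
  refine hasOrd_AB (m := 3) (n := 4) hφ ?_ (A_thr_mem hφ) (orderOf_B_wel h2) (by norm_num)
  rw [(kerPM_ph hD4 l23).orderOf_eq _ (by rw [orderOf_thr]; decide), orderOf_thr]

/-- order `4 s`, characteristic 2 -/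
theorem ord_four_mul (hφ : ∀ x, φ x = x ^ q) (h2 : (2 : K) = 0) {c : Kˣ} {s : ℕ} (hc : orderOf c = s)
    (hs : Odd s) (hs3 : s ∣ q ^ 2 + q + 1) : HasOrd (twistedD4 K q) (4 * s) := by
  have hds : orderOf (dg c) = s := by rw [orderOf_injective _ dg_injective, hc]
  have hx : orderOf (xG hD4 14 (1 : K) * xG hD4 22 1) = 4 :=
    orderOf_four hD4 l14 l22 (k := 23) (by decide) (by decide) (by decide) (c := 1) (by decide) (by decide)
      (by decide) h2
  have hz : orderOf ((B φ (dg c) : ↥(chevD4.group K)) : GL chevD4.Idx K) = s := by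
    rw [coe_orderOf, (kerPM_B φ).orderOf_eq _ (by rw [hds]; exact hs), hds]
  have hus : (c : K) ^ (q ^ 2 + q + 1) = 1 := by
    have h1 : c ^ (q ^ 2 + q + 1) = 1 := orderOf_dvd_iff_pow_eq_one.1 (by rw [hc]; exact hs3)
    have h := congrArg Units.val h1
    rwa [Units.val_pow_eq_pow_val, Units.val_one] at h
  have hcomm : ∀ s, s < chevD4.nroots → (chevD4.cartan 0 s = chevD4.cartan 2 s ∧ chevD4.cartan 2 s = chevD4.cartan 3 s) →
      Commute ((B φ (dg c) : ↥(chevD4.group K)) : GL chevD4.Idx K) (xG hD4 s 1) := by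
    intro s hs ⟨e1, e2⟩
    have h1 := torus_conj (K := K) c.ne_zero (map_ne_zero φ |>.2 c.ne_zero)
      (map_ne_zero φ |>.2 (map_ne_zero φ |>.2 c.ne_zero)) hs 1
    rw [← coe_B_dg, e1, e2, ← mul_assoc, ← mul_assoc, ← mul_zpow, ← mul_zpow] at h1
    have h5 : (c : K) * φ c * φ (φ c) = 1 := by
      rw [hφ, hφ, ← hus]; ring
    rw [h5, one_zpow, one_mul] at h1
    exact mul_inv_eq_iff_eq_mul.1 h1
  have hcm : Commute (xG hD4 14 (1 : K) * xG hD4 22 1) ((B φ (dg c) : ↥(chevD4.group K)) : GL chevD4.Idx K) :=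
    (hcomm 14 l14 (by decide)).symm.mul_left (hcomm 22 l22 (by decide)).symm
  refine hasOrd_of_mem (mul_mem (mul_mem ?_ ?_) (B_mem hφ (dg c))) (x := xG hD4 14 (1 : K) * xG hD4 22 1 *
    ((B φ (dg c) : ↥(chevD4.group K)) : GL chevD4.Idx K)) ?_
  · rw [xG_eq]; exact D4Perfect.x14_mem' hφ (map_one φ)
  · rw [xG_eq]; exact D4Perfect.x22_mem hφ (map_one φ)
  · rw [hcm.orderOf_mul_eq_mul_orderOf_of_coprime (by
      rw [hx, hz, show 4 = 2 ^ 2 by norm_num]
      exact Nat.Coprime.pow_left 2 (Nat.coprime_two_left.2 hs)), hx, hz]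

/-- the Sylow 3-subgroups are not cyclic -/
theorem not_cyclic (hφ : ∀ x, φ x = x ^ q) [Finite K] : ∃ P : Sylow 3 ↥(twistedD4 K q), ¬ IsCyclic P := by
  have h3 := orderOf_thr (F := K)
  have oA : orderOf (ph (F := K) hD4 l23 (thr K)) = 3 := by
    rw [(kerPM_ph hD4 l23).orderOf_eq _ (by rw [h3]; decide), h3]
  have oB : orderOf (B φ (thr K)) = 3 := by
    rw [(kerPM_B φ).orderOf_eq _ (by rw [h3]; decide), h3]
  let a : ↥(twistedD4 K q) := ⟨_, B_mem hφ (thr K)⟩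
  let b : ↥(twistedD4 K q) := ⟨_, A_thr_mem hφ⟩
  have hoa : orderOf a = 3 := by rw [← oB, ← Subgroup.orderOf_coe (B φ (thr K))]; exact Subgroup.orderOf_mk _ _
  have hob : orderOf b = 3 := by
    rw [← oA, ← Subgroup.orderOf_coe (ph (F := K) hD4 l23 (thr K))]; exact Subgroup.orderOf_mk _ _
  have hc : Commute a b := by
    apply Subtype.ext
    exact congrArg (fun z : ↥(chevD4.group K) => (z : GL chevD4.Idx K)) (commute_B (φ := φ) (thr K) (thr K)).symm.eq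
  refine not_cyclic_of_pair Nat.prime_three hc hoa hob ?_
  rintro ⟨i, hi⟩
  have h1 : (ph (F := K) hD4 l23 (thr K)) ^ i = B φ (thr K) := by
    apply Subtype.ext
    have := congrArg (fun z : ↥(twistedD4 K q) => (z : GL chevD4.Idx K)) hi
    simpa [a, b] using this
  have h2 : ∀ x : SL2 K, Commute (B φ (thr K)) (B φ x) := by
    intro x
    rw [← h1]
    exact (commute_B (φ := φ) (thr K) x).zpow_left i
  rcases (kerPM_B φ).eq_of_commute h2 with h4 | h4
  · rw [h4, orderOf_one] at h3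
    norm_num at h3
  · have h5 : (thr K) ^ 2 = 1 := by rw [h4]; simp
    have h6 := orderOf_dvd_of_pow_eq_one h5
    rw [h3] at h6
    norm_num at h6

end D

/-! ### the primes -/

theorem factor (q : ℕ) (hq : 1 ≤ q) : q ^ 8 + q ^ 4 + 1 = (q ^ 4 + q ^ 2 + 1) * (q ^ 4 - q ^ 2 + 1) := by
  have h : q ^ 2 ≤ q ^ 4 := Nat.pow_le_pow_right hq (by norm_num)
  zify [h]
  ring

theorem dvd_six {q s : ℕ} (hq : 1 ≤ q) (hs : s.Prime) (h : s ∣ (q ^ 2 - 1) * (q ^ 6 - 1) * (q ^ 4 + q ^ 2 + 1)) :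
    s ∣ q ^ 6 - 1 := by
  have h2 : 1 ≤ q ^ 2 := Nat.one_le_pow _ _ hq
  have h6 : 1 ≤ q ^ 6 := Nat.one_le_pow _ _ hq
  have e : q ^ 6 - 1 = (q ^ 2 - 1) * (q ^ 4 + q ^ 2 + 1) := by
    zify [h2, h6]; ring
  rcases hs.dvd_mul.1 h with h | h
  · rcases hs.dvd_mul.1 h with h | h
    · rw [e]; exact h.mul_right _
    · exact h
  · rw [e]; exact h.mul_left _

theorem two_mul_lt {f p u : ℕ} (hf : f < u) (hp : u ^ 4 - u ^ 2 + 1 = p) (h : p ^ 2 ≤ 2 * f + 1) (hu : 2 ≤ u) : False := by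
  have h1 : u ^ 2 * 4 ≤ u ^ 4 := by
    calc u ^ 2 * 4 ≤ u ^ 2 * u ^ 2 := Nat.mul_le_mul_left _ (by nlinarith)
      _ = u ^ 4 := by ring
  have h2 : u ≤ u ^ 2 := by nlinarith
  have h3 : 3 * u ^ 2 ≤ p := by omega
  have h4 : p ≤ p ^ 2 := by nlinarith
  omega

theorem exists_prime_q2 {u : ℕ} (hu : 2 ≤ u) : ∃ s : ℕ, s.Prime ∧ s ≠ 3 ∧ s ∣ u ^ 2 + u + 1 := by
  have h9 : ¬ 9 ∣ u ^ 2 + u + 1 := by
    intro h
    have h1 : ((u : ZMod 9)) ^ 2 + u + 1 = 0 := by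
      have := (ZMod.natCast_eq_zero_iff _ 9).2 h
      push_cast at this
      exact this
    revert h1
    generalize (u : ZMod 9) = z
    revert z
    decide
  by_cases h3 : 3 ∣ u ^ 2 + u + 1
  · obtain ⟨M, hM⟩ := h3
    have hM1 : M ≠ 1 := by
      rintro rfl
      nlinarith
    refine ⟨M.minFac, Nat.minFac_prime hM1, ?_, (Nat.minFac_dvd M).trans ⟨3, by rw [hM]; ring⟩⟩
    intro h
    apply h9
    rw [hM]
    obtain ⟨k, hk⟩ := Nat.minFac_dvd M
    rw [h] at hk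
    exact ⟨k, by rw [hk]; ring⟩
  · have hN1 : u ^ 2 + u + 1 ≠ 1 := by nlinarith
    refine ⟨(u ^ 2 + u + 1).minFac, Nat.minFac_prime hN1, ?_, Nat.minFac_dvd _⟩
    intro h
    exact h3 (h ▸ Nat.minFac_dvd _)

/-- **Row `³D₄(u)`** -/
theorem row {K : Type} [Field K] [Fintype K] {u : ℕ} (hu : IsPrimePow u) (hK : Fintype.card K = u ^ 3)
    [IsSimpleGroup ↥(twistedD4 K u)] (hna : ¬ IsMulCommutative ↥(twistedD4 K u)) {p m : ℕ}
    {X : Subgroup (MulAut ↥(twistedD4 K u))} (H : Sit ↥(twistedD4 K u) p m X) : False := by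
  have hfin : Finite ↥(twistedD4 K u) := inferInstance
  obtain ⟨φ, hφ⟩ := D4Fixed.exists_frob hu hK
  have hu2 := hu.two_le
  have hK' : Nat.card K = u ^ 3 := by rw [Nat.card_eq_fintype_card, hK]
  obtain ⟨ℓ, f, hℓ, hf, hℓf⟩ := id hu
  have hℓ := hℓ.nat_prime
  have hℓF : Fact ℓ.Prime := ⟨hℓ⟩
  have hcharP : CharP K ℓ := by
    obtain ⟨p', hp'⟩ := CharP.exists K
    have hpr : p'.Prime := CharP.char_is_prime K p'
    have h2 : p' ∣ u ^ 3 := by
      rw [← hK]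
      exact (CharP.cast_eq_zero_iff K p' _).1 (FiniteField.cast_card_eq_zero K)
    have h3 : p' ∣ ℓ ^ f := by rw [hℓf]; exact hpr.dvd_of_dvd_pow h2
    rwa [(Nat.prime_dvd_prime_iff_eq hpr hℓ).1 (hpr.dvd_of_dvd_pow h3)] at hp'
  have hcard := S1067.result hu hK
  -- `p = u ^ 4 - u ^ 2 + 1`
  have hod : H378.ExcAdj.od u p = 12 :=
    (H378.TwRows.near_3D4 hu hK H.hp H.dvd).resolve_left (not_near hna H)
  have hle : u ^ 2 ≤ u ^ 4 := Nat.pow_le_pow_right (by omega) (by norm_num)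
  have hpdvd : p ∣ u ^ 4 - u ^ 2 + 1 := by
    have h1 := H378.RegFin.cyclotomic_dvd H.hp hod (by norm_num)
    rw [H378.TwRows.eval_cyc12] at h1
    refine H378.TwRows.int_dvd h1 ?_
    push_cast [Nat.cast_sub hle]
    ring
  obtain ⟨T, hT, hTc, -⟩ := H129.TwD4Cyc.coxeter_torus hu hK
  have hpeq : u ^ 4 - u ^ 2 + 1 = p := by
    rw [← hTc]
    exact eq_of_cyclic hna H hT (by rw [hTc]; exact hpdvd)
  -- orders `3 s`
  have hthree : ∀ s : ℕ, s.Prime → s ≠ 2 → s ≠ 3 → (s ∣ u ∨ s ∣ u ^ 6 - 1) → HasOrd ↥(twistedD4 K u) (s * 3) := by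
    intro s hs hs2 hs3 h
    have hcop : Nat.Coprime 3 s := (Nat.coprime_primes Nat.prime_three hs).2 (Ne.symm hs3)
    have hodd := hs.odd_of_ne_two hs2
    rw [mul_comm]
    rcases h with h | h
    · have hsl : s = ℓ := by
        rw [← hℓf] at h
        exact (Nat.prime_dvd_prime_iff_eq hs hℓ).1 (hs.dvd_of_dvd_pow h)
      subst hsl
      exact ord_three_mul hφ (g := up 1) (Cfsg.Agent.H92.ExcSL2.orderOf_up s) hodd hcop
    · obtain ⟨g, hg⟩ := exists_orderOf_prime (F := K) hs (by rw [hK', ← pow_mul]; exact h)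
      exact ord_three_mul hφ hg hodd hcop
  -- `3 ∣ mm`
  have h3m : 3 ∣ mm (p ^ m) := by
    by_cases h2 : (2 : K) = 0
    · have hue : Even u := by
        have h5 : ((2 : ℕ) : K) = 0 := by exact_mod_cast h2
        rw [CharP.cast_eq_zero_iff K ℓ, Nat.prime_dvd_prime_iff_eq hℓ Nat.prime_two] at h5
        rw [← hℓf, h5]
        exact even_iff_two_dvd.2 (dvd_pow_self 2 hf.ne')
      obtain ⟨s, hs, hs3, hsN⟩ := exists_prime_q2 hu2
      have hs2 : s ≠ 2 := by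
        rintro rfl
        obtain ⟨k, hk⟩ := hue
        have e : u ^ 2 + u + 1 = 2 * (2 * k ^ 2 + k) + 1 := by rw [hk]; ring
        omega
      have hs6 : s ∣ u ^ 3 - 1 := by
        have e : u ^ 3 - 1 = (u - 1) * (u ^ 2 + u + 1) := by
          have h6 : 1 ≤ u ^ 3 := Nat.one_le_pow _ _ (by omega)
          have h7 : 1 ≤ u := by omega
          zify [h6, h7]; ring
        rw [e]; exact hsN.mul_left _
      obtain ⟨c, hc⟩ := exists_dg_order (K := K) (n := s) (by rw [hK']; exact hs6)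
      obtain ⟨g, hg⟩ := ord_four_mul hφ h2 hc (hs.odd_of_ne_two hs2) hsN
      obtain ⟨g', hg'⟩ := hthree s hs hs2 hs3 (Or.inr (by
        have e : u ^ 6 - 1 = (u ^ 3 + 1) * (u ^ 3 - 1) := by
          rw [show u ^ 6 = (u ^ 3) ^ 2 by ring, ← Nat.sq_sub_sq, one_pow]
        rw [e]; exact hs6.mul_left _))
      exact three_dvd_mm_of hna H hs hs2 ⟨g, by rw [hg, mul_comm]⟩ ⟨g', by rw [hg']⟩
    · obtain ⟨g, hg⟩ := ord_twelve hφ h2
      exact (by norm_num : 3 ∣ 12).trans (H.three_dvd_mm hna (g := g) (by rw [hg]))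
  -- the count
  have hout : Nat.card (Cfsg.Out ↥(twistedD4 K u)) = 3 * f := by
    subst hℓf
    exact S2129.result ℓ f (by rw [hK, ← pow_mul, mul_comm]) hf
  have haut := card_aut hna
  rw [hout, hcard, factor u (by omega), hpeq] at haut
  have key := three_card' hna H h3m (not_cyclic hφ) (A := 3 * (u ^ 12 * ((u ^ 2 - 1) * (u ^ 6 - 1) * (u ^ 4 + u ^ 2 + 1)) * p))
    (B := f) (by rw [haut]; exact dvd_of_eq (by ring)) hf ?_
  · refine two_mul_lt (f := f) (p := p) (u := u) ?_ hpeq ?_ hu2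
    · rw [← hℓf]; exact Nat.lt_pow_self hℓ.one_lt
    · have := H.sq_le
      omega
  · intro s hs h
    by_cases hs2 : s = 2
    · exact Or.inl hs2
    by_cases hs3 : s = 3
    · exact Or.inr (Or.inl hs3)
    right; right
    rcases hs.dvd_mul.1 h with h | h
    · exact absurd ((Nat.prime_dvd_prime_iff_eq hs Nat.prime_three).1 h) hs3
    · rcases hs.dvd_mul.1 h with h | h
      · right
        have h' : s ∣ u ∨ s ∣ u ^ 6 - 1 := by
          rcases hs.dvd_mul.1 h with h | h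
          · exact Or.inl (hs.dvd_of_dvd_pow h)
          · exact Or.inr (dvd_six (by omega) hs h)
        obtain ⟨g, hg⟩ := hthree s hs hs2 hs3 h'
        exact ⟨g, Or.inl (by rw [hg])⟩
      · exact Or.inl ((Nat.prime_dvd_prime_iff_eq hs H.hp).1 h)

theorem row_td4' {S : Type*} [Group S] [Finite S] [IsSimpleGroup S] (hna : ¬ IsMulCommutative S) {p m : ℕ}
    {X : Subgroup (MulAut S)} (H : Sit S p m X) (h : Cfsg.Lie.Iso3D4 S) : False := by
  obtain ⟨K, _, _, u, hu, hK, ⟨e⟩⟩ := h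
  have hs : IsSimpleGroup ↥(twistedD4 K u) := e.symm.isSimpleGroup
  have hna' : ¬ IsMulCommutative ↥(twistedD4 K u) := by
    intro h
    apply hna
    refine ⟨⟨fun a b => e.injective ?_⟩⟩
    rw [map_mul, map_mul]
    exact h.1.1 _ _
  exact row hu hK hna' (H.congr e)

theorem row_td4 {S : Type*} [Group S] [Finite S] [IsSimpleGroup S] (hna : ¬ IsMulCommutative S) {p m : ℕ}
    {X : Subgroup (MulAut S)} (H : Sit S p m X) {u : ℕ} (h : Cfsg.Agent.H436.IsNamed (.td4 u) S) : False := by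
  obtain ⟨K, _, _, hK, ⟨e⟩⟩ := h.real
  exact row_td4' hna H ⟨K, _, _, u, h.cond, hK, ⟨e⟩⟩

end Cfsg.Agent.H564.PglD4
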