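import Cfsg.Agent.H378.TwAdj
import Cfsg.Agent.H868.KSL2

/-!
# Elements of order 3 commuting with torus elements, twisted groups (helper564)

* `exists_y` : `σ` a twisted Frobenius automorphism of `D.group k` with lattice automorphism `g`, `g a = a`: `σ`-fixed
  elements `x ∈ X_a`, `y ∈ X_{-a}` of order `p` with `(x y) ^ 2` of order 3, commuting with the `t ∈ T`, `a(t) = 1`;
* `pr_three_of_eig` : the companion of `TwAdj.pair_p_of_eig` with an element of order 3 instead of the characteristic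
  (no hypothesis on `p`).
-/

set_option autoImplicit false
set_option linter.unusedSectionVars false

namespace Cfsg.Agent.H564.ThreeTw

open CoxeterSystem Cfsg Cfsg.Lie Cfsg.Lie.ChevalleyDatum
open Cfsg.Agent.ChevalleyStructure Cfsg.Agent.ChevalleyStructure.Elts Cfsg.Agent.ChevalleyStructure.CoxeterGeom
  Cfsg.Agent.ChevalleyStructure.CoxeterGeomTypes Cfsg.Agent.ChevalleyStructure.NPerm
open Cfsg.Agent.Tits.Roots Cfsg.Agent.Tits.Core Cfsg.Agent.Nodes Cfsg.Agent.Nodes.Reps Cfsg.Agent.Nodes.BNOf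
  Cfsg.Agent.Nodes.RGDChev Cfsg.Agent.Nodes.Bruhat Cfsg.Agent.Nodes.SubComb Cfsg.Agent.Nodes.Coroot
open Cfsg.Agent.KFacts.RgdField Cfsg.Agent.KFacts.RgdChevCoord Cfsg.Agent.BpExc.TorCent Cfsg.Agent.BpExc.TorChev
open Cfsg.Agent.GpExc.Field Cfsg.Agent.BpExc.Tow Cfsg.Agent.BpExc.TowChev Cfsg.Agent.BpExc.Fr
  Cfsg.Agent.BpExc.LangFr Cfsg.Agent.LangThm Cfsg.Agent.BpExc Cfsg.Agent.H129.TorusChar Cfsg.Agent.H129.TorusCent
  Cfsg.Agent.H129.TorusTw Cfsg.Agent.H129.TorusMain Cfsg.Agent.H493.PGTorus Cfsg.Agent.H493.PGTwist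
open Cfsg.Agent.ChevalleyStructure.SL2Hom (up lo)
open Cfsg.Agent.H92.ExcSL2 (ph coe_ph phi_up phi_lo)
open Cfsg.Agent.H868.KSL2 (mul_ent neg_ent kerPM_ph KerPM)
open Cfsg.Agent.H378.TwAdj (Pr not_dvd_one)

universe u

/-! ### `SL₂` -/

section SL

variable {F : Type u} [Field F]

/-- `up s * lo (-s⁻¹)` -/
theorem pow_three {s : F} (hs : s ≠ 0) :
    ((up s * lo (-s⁻¹)) ^ 2) ^ 3 = (1 : Cfsg.Agent.H92.ExcSL2.SL2 F) ∧
      ((up s * lo (-s⁻¹) : Cfsg.Agent.H92.ExcSL2.SL2 F) ^ 2).1 0 1 = s := by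
  have e : (up s * lo (-s⁻¹) : Cfsg.Agent.H92.ExcSL2.SL2 F).1 = !![0, s; -s⁻¹, 1] := by
    show !![(1 : F), s; 0, 1] * !![1, 0; -s⁻¹, 1] = _
    rw [Matrix.mul_fin_two]
    ext i j
    fin_cases i <;> fin_cases j <;> simp [hs]
  have e2 : ((up s * lo (-s⁻¹) : Cfsg.Agent.H92.ExcSL2.SL2 F) ^ 2).1 = !![-1, s; -s⁻¹, 0] := by
    rw [pow_two]
    show (up s * lo (-s⁻¹) : Cfsg.Agent.H92.ExcSL2.SL2 F).1 * (up s * lo (-s⁻¹) : Cfsg.Agent.H92.ExcSL2.SL2 F).1 = _
    rw [e, Matrix.mul_fin_two]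
    ext i j
    fin_cases i <;> fin_cases j <;> simp [hs]
  refine ⟨?_, by rw [e2]; rfl⟩
  have e3 : (up s * lo (-s⁻¹) : Cfsg.Agent.H92.ExcSL2.SL2 F) ^ 3 = -1 := by
    apply Subtype.ext
    rw [pow_succ]
    show ((up s * lo (-s⁻¹) : Cfsg.Agent.H92.ExcSL2.SL2 F) ^ 2).1 * (up s * lo (-s⁻¹) : Cfsg.Agent.H92.ExcSL2.SL2 F).1 = _
    rw [e2, e, Matrix.mul_fin_two]
    ext i j
    fin_cases i <;> fin_cases j <;> simp [hs]
  rw [← pow_mul, mul_comm, pow_mul, e3]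
  simp

theorem eq_of_neg_inv {s : F} (hs : s ≠ 0) :
    (up s * lo (-s⁻¹) * up s : Cfsg.Agent.H92.ExcSL2.SL2 F) * up s = lo (-s⁻¹) * (up s * lo (-s⁻¹) * up s) := by
  apply Subtype.ext
  show (!![(1 : F), s; 0, 1] * !![1, 0; -s⁻¹, 1] * !![(1 : F), s; 0, 1]) * !![(1 : F), s; 0, 1] =
    !![1, 0; -s⁻¹, 1] * (!![(1 : F), s; 0, 1] * !![1, 0; -s⁻¹, 1] * !![(1 : F), s; 0, 1])
  simp only [Matrix.mul_fin_two]
  ext i j
  fin_cases i <;> fin_cases j <;> simp [hs]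

/-- the matrix computation -/
theorem eq_neg_inv {s w : F} (hs : s ≠ 0)
    (h : (up s * lo w * up s : Cfsg.Agent.H92.ExcSL2.SL2 F) * up s = lo w * (up s * lo w * up s) ∨
      (up s * lo w * up s : Cfsg.Agent.H92.ExcSL2.SL2 F) * up s = -(lo w * (up s * lo w * up s))) : w = -s⁻¹ := by
  have hw : 1 + s * w = 0 := by
    rcases h with h | h
    · have e01 := congrArg (fun z : Cfsg.Agent.H92.ExcSL2.SL2 F => z.1 0 1) h
      simp only [mul_ent] at e01
      simp [up, lo] at e01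
      rcases e01 with h1 | h1
      · linear_combination h1
      · exact absurd h1 hs
    · have e00 := congrArg (fun z : Cfsg.Agent.H92.ExcSL2.SL2 F => z.1 0 0) h
      have e01 := congrArg (fun z : Cfsg.Agent.H92.ExcSL2.SL2 F => z.1 0 1) h
      simp only [mul_ent, neg_ent] at e00 e01
      simp [up, lo] at e00 e01
      have h2z : 2 * (1 + s * w) = 0 := by linear_combination e00
      have hz : s * (1 + s * w + 2) = 0 := by linear_combination e01 - s * h2z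
      have hz' : 1 + s * w = -2 := by
        have := (mul_eq_zero.1 hz).resolve_left hs
        linear_combination this
      have h4 : (2 : F) * 2 = 0 := by linear_combination -h2z + 2 * hz'
      have h2 : (2 : F) = 0 := by
        rcases mul_eq_zero.1 h4 with h | h <;> exact h
      rw [hz', h2, neg_zero]
  have h1 : s * w = -1 := by linear_combination hw
  have h2 : w = s⁻¹ * (s * w) := by rw [← mul_assoc, inv_mul_cancel₀ hs, one_mul]
  rw [h2, h1]; ring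

end SL

/-! ### root elements -/

section Alg

variable {D : ChevalleyDatum} {l : ℕ} {M : CoxeterMatrix (Fin l)} (hp : IsType D l M) {k : Type u} [Field k]

theorem xc_up {r : ℕ} (hr : r < D.nroots) (s : k) : xc hp (vec D l r) s = ph hp.inList hr (up s) := by
  apply Subtype.ext
  rw [coe_xc hp hr, coe_ph, phi_up hp.inList hr]

theorem xc_lo {r : ℕ} (hr : r < D.nroots) (s : k) : xc hp (-(vec D l r)) s = ph hp.inList hr (lo s) := by
  apply Subtype.ext
  rw [← vec_neg hp hr, coe_xc hp (neg_lt hp.inList hr), coe_ph, phi_lo hp.inList hr]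

variable [IsAlgClosed k] {W : Type*} [Group W] (cs : CoxeterSystem M W) {p e : ℕ} [Fact p.Prime] [CharP k p]
  {σ : MulAut ↥(D.group k)} {g : (Fin l → ℤ) ≃+ (Fin l → ℤ)}

theorem orderOf_xc {r : ℕ} (hr : r < D.nroots) {s : k} (hs : s ≠ 0) : orderOf (xc hp (vec D l r) s) = p := by
  have hpow : ∀ n : ℕ, xc hp (vec D l r) s ^ n = xc hp (vec D l r) (n * s) := by
    intro n
    induction n with
    | zero =>
      rw [pow_zero, Nat.cast_zero, zero_mul]
      apply Subtype.ext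
      rw [coe_xc hp hr, xG_zero]
      rfl
    | succ n ih =>
      rw [pow_succ, ih]
      apply Subtype.ext
      rw [Subgroup.coe_mul, coe_xc hp hr, coe_xc hp hr, coe_xc hp hr, Nat.cast_succ, add_mul, one_mul, xG_add]
  have hx0 : xc hp (vec D l r) (0 : k) = 1 := by
    apply Subtype.ext
    rw [coe_xc hp hr, xG_zero]
    rfl
  refine orderOf_eq_prime ?_ ?_
  · rw [hpow, CharP.cast_eq_zero, zero_mul, hx0]
  · intro h0
    rw [← hx0] at h0
    exact hs (xc_inj hp hr h0)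

/-- **Elements of order 3.** -/
theorem exists_y (hk : LocFin k) (he : 0 < e) (hσ : IsFrob p e σ)
    (F : Fr cs hp.isCartan (TT D k) (XX D l k) σ g) {a : Fin l → ℤ} (ha : IsRoot cs hp.isCartan a) (hga : g a = a) :
    ∃ x y : ↥(D.group k), σ x = x ∧ σ y = y ∧ orderOf x = p ∧ orderOf y = p ∧ orderOf ((x * y) ^ 2) = 3 ∧
      ∀ t ∈ TT D k, cX hp t a = 1 → Commute t x ∧ Commute t y := by
  obtain ⟨r, hr, rfl⟩ := (isRoot_iff hp cs a).1 ha
  have hna : IsRoot cs hp.isCartan (-(vec D l r)) := by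
    rw [← vec_neg hp hr]
    exact (isRoot_iff hp cs _).2 ⟨_, neg_lt hp.inList hr, rfl⟩
  obtain ⟨c, hc, h1⟩ := HX.fr_xc hp cs hσ F ha
  obtain ⟨c', hc', h1'⟩ := HX.fr_xc hp cs hσ F hna
  rw [hga] at h1
  rw [map_neg, hga] at h1'
  have hq : 1 < p ^ e := Nat.one_lt_pow he.ne' (Fact.out : p.Prime).one_lt
  obtain ⟨s, hs⟩ := IsAlgClosed.exists_pow_nat_eq c⁻¹ (n := p ^ e - 1) (by omega)
  have hs0 : s ≠ 0 := by
    rintro rfl
    rw [zero_pow (by omega)] at hs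
    exact inv_ne_zero hc hs.symm
  have hs1 : c * s ^ p ^ e = s := by
    have e1 : s ^ p ^ e = s ^ (p ^ e - 1) * s := by
      rw [← pow_succ]; congr 1; omega
    rw [e1, hs, ← mul_assoc, mul_inv_cancel₀ hc, one_mul]
  -- the other coordinate
  have hw : c' * (-s⁻¹) ^ p ^ e = -s⁻¹ := by
    set w := c' * (-s⁻¹) ^ p ^ e with hwdef
    have hx : σ (ph hp.inList hr (up s)) = ph hp.inList hr (up s) := by
      rw [← xc_up hp hr, h1, hs1]
    have hy : σ (ph hp.inList hr (lo (-s⁻¹))) = ph hp.inList hr (lo w) := by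
      rw [← xc_lo hp hr, h1', ← xc_lo hp hr]
    have e1 := eq_of_neg_inv hs0
    have e2 : ph hp.inList hr (up s * lo w * up s * up s) = ph hp.inList hr (lo w * (up s * lo w * up s)) := by
      have h3 := congrArg (fun z => σ (ph hp.inList hr z)) e1
      simp only [map_mul] at h3 ⊢
      rwa [hx, hy] at h3
    apply eq_neg_inv hs0
    rcases kerPM_ph (F := k) hp.inList hr ((up s * lo w * up s * up s) * (lo w * (up s * lo w * up s))⁻¹) (by
      rw [map_mul, map_inv, e2, mul_inv_cancel]) with h4 | h4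
    · left; exact mul_inv_eq_one.1 h4
    · right
      rw [mul_inv_eq_iff_eq_mul] at h4
      rw [h4]
      simp
  refine ⟨xc hp (vec D l r) s, xc hp (-(vec D l r)) (-s⁻¹), by rw [h1, hs1], by rw [h1', hw], ?_, ?_, ?_, ?_⟩
  · exact orderOf_xc hp hr hs0
  · rw [← vec_neg hp hr]
    exact orderOf_xc hp (neg_lt hp.inList hr) (neg_ne_zero.2 (inv_ne_zero hs0))
  · rw [xc_up hp hr, xc_lo hp hr, ← map_mul, ← map_pow]
    obtain ⟨h3, h4⟩ := pow_three hs0
    have : Fact (Nat.Prime 3) := ⟨Nat.prime_three⟩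
    refine orderOf_eq_prime (by rw [← map_pow, h3, map_one]) fun h5 => ?_
    rcases kerPM_ph (F := k) hp.inList hr _ h5 with h6 | h6
    · rw [h6] at h4
      simp at h4
      exact hs0 h4.symm
    · rw [h6] at h4
      simp at h4
      exact hs0 h4.symm
  · intro t ht h2
    have key : ∀ {r : ℕ} (hr : r < D.nroots) (s : k), IsRoot cs hp.isCartan (vec D l r) → cX hp t (vec D l r) = 1 →
        Commute t (xc hp (vec D l r) s) := by
      intro r hr s ha h2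
      have h3 := (act hp hr ht).2 s
      rw [← cX_root hp cs ht ha, h2, one_mul] at h3
      calc t * xc hp (vec D l r) s = t * xc hp (vec D l r) s * t⁻¹ * t := by group
        _ = _ := by rw [h3]
    refine ⟨key hr s ha h2, ?_⟩
    have h3 : cX hp t (vec D l (D.neg r)) = 1 := by
      rw [vec_neg hp hr]
      have h5 := (isMC_cX hp ht).2 (vec D l r) (-(vec D l r))
      rw [add_neg_cancel, (isMC_cX hp ht).1, h2, one_mul] at h5
      exact h5.symm
    rw [← vec_neg hp hr]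
    exact key (neg_lt hp.inList hr) _ (by rw [vec_neg hp hr]; exact hna) h3

end Alg

/-! ### descent -/

theorem mem_range {G0 Y : Type*} [Group G0] [Group Y] {e0 : G0 →* Y} {σ : MulAut Y}
    {d : ℕ} (hd : ∀ y, σ y = y → y ^ d ∈ e0.range) {x : Y} (hx : σ x = x) {p : ℕ} (hp : p.Prime) (hpd : ¬ p ∣ d)
    (ho : orderOf x = p) : x ∈ e0.range := by
  have h1 : x ∈ Subgroup.zpowers (x ^ d) := by
    rw [mem_zpowers_pow_iff, ho]
    exact ((Nat.Prime.coprime_iff_not_dvd hp).2 hpd).symm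
  exact (Subgroup.zpowers_le.2 (hd x hx)) h1

theorem three_desc {G0 Y : Type*} [Group G0] [Group Y] {e0 : G0 →* Y} (he0 : Function.Injective e0) {σ : MulAut Y}
    {d : ℕ} (hd : ∀ y, σ y = y → y ^ d ∈ e0.range) {t x y : Y} (ht : σ t = t) (hx : σ x = x) (hy : σ y = y)
    {p : ℕ} (hp : p.Prime) (hpd : ¬ p ∣ d) (hxo : orderOf x = p) (hyo : orderOf y = p)
    (h3 : orderOf ((x * y) ^ 2) = 3) (htx : Commute t x) (hty : Commute t y)
    {r : ℕ} (hr : r.Prime) (hrd : ¬ r ∣ d) (hto : orderOf t = r) : Pr G0 r 3 := by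
  obtain ⟨u, hu⟩ := hd t ht
  obtain ⟨x', hx'⟩ := mem_range hd hx hp hpd hxo
  obtain ⟨y', hy'⟩ := mem_range hd hy hp hpd hyo
  refine ⟨u, (x' * y') ^ 2, ?_, ?_, ?_⟩
  · rw [← orderOf_injective e0 he0 u, hu, Nat.Coprime.orderOf_pow, hto]
    rw [hto]
    exact (Nat.Prime.coprime_iff_not_dvd hr).2 hrd
  · rw [← orderOf_injective e0 he0, map_pow, map_mul, hx', hy', h3]
  · apply he0
    rw [map_mul, map_mul, map_pow, map_mul, hu, hx', hy']
    exact (((htx.mul_right hty).pow_right 2).pow_left d).eq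

section Main

variable {D : ChevalleyDatum} {l : ℕ} {M : CoxeterMatrix (Fin l)} (hp : IsType D l M) {k : Type u} [Field k]
  [IsAlgClosed k] {W : Type*} [Group W] [Finite W] (cs : CoxeterSystem M W) {p e : ℕ} [Fact p.Prime] [CharP k p]
  {σ : MulAut ↥(D.group k)} {g : (Fin l → ℤ) ≃+ (Fin l → ℤ)}
  {G0 : Type*} [Group G0] {e0 : G0 →* ↥(D.group k)}

/-- **Adjacency to 3.** -/
theorem pr_three_of_eig (hk : LocFin k) (he : 0 < e) (hσ : IsFrob p e σ)
    (F : Fr cs hp.isCartan (TT D k) (XX D l k) σ g) {d' : ℕ} {B' : Fin l → Fin l → ℤ} (hB : InvC D l d' B')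
    (hd' : d' ≠ 0) (he0 : Function.Injective e0) {d : ℕ} (hd : ∀ y, σ y = y → y ^ d ∈ e0.range)
    {w : W} {Th : Fin l → Fin l → ℤ} (hw : ∀ j, rep cs hp.isCartan w (g (sr j)) = Th j)
    {f : ℕ} {c : Fin (f + 1) → ℤ} {V : Fin (f + 1) → Fin l → ℤ} {U : Fin l → ℤ}
    (h : EigOK (fun i j => Th j i) c V U) (hc : c 0 = 1 ∨ c 0 = -1) {a : Fin l → ℤ} (ha : IsRoot cs hp.isCartan a)
    (hwa : rep cs hp.isCartan w (g a) = a) (hVa : ∀ i, ∑ m, a m * V i m = 0)
    {r : ℕ} (hr : r.Prime) (hrd : ¬ r ∣ d) (hpd : ¬ p ∣ d)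
    (h1 : (r : ℤ) ∣ pv c ((p ^ e : ℕ) : ℤ)) : Pr G0 r 3 := by
  obtain ⟨n, z, hz, hσ', F'⟩ := exists_z hp cs hk he hσ F w
  obtain ⟨t, ht, h3, h4, h5⟩ := exists_t hp cs hσ' F' hB hd' hr (ne_char hc Fact.out he h1) (hL_of_eig hp cs hw h h1)
    (x₀ := U) (by rw [lam_unit h]; exact not_dvd_one hr)
  obtain ⟨x, y, hx, hy, hxo, hyo, hxy, hcom⟩ := exists_y hp cs hk he hσ' F' ha hwa
  obtain ⟨htx, hty⟩ := hcom t ht (h5 a (by rw [lam_zero hVa]; exact dvd_zero _))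
  have ho : ∀ y : ↥(D.group k), orderOf (z * y * z⁻¹) = orderOf y := fun y =>
    orderOf_injective (MulAut.conj z).toMonoidHom (MulAut.conj z).injective y
  have hcc : ∀ {a b : ↥(D.group k)}, Commute a b → Commute (z * a * z⁻¹) (z * b * z⁻¹) := fun {a b} hab =>
    hab.map (MulAut.conj z).toMonoidHom
  refine three_desc he0 hd (fix_conj hz h3) (fix_conj hz hx) (fix_conj hz hy) (p := p) Fact.out hpd
    ((ho x).trans hxo) ((ho y).trans hyo) ?_ (hcc htx) (hcc hty) hr hrd ((ho t).trans h4)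
  have e1 : (z * x * z⁻¹ * (z * y * z⁻¹)) ^ 2 = z * (x * y) ^ 2 * z⁻¹ := by rw [pow_two, pow_two]; group
  rw [e1, ho, hxy]

end Main

/-! ### `²E₆(q)` -/

section E

open Cfsg.Agent.H129 Cfsg.Agent.H129.WData Cfsg.Agent.H493.TwE6Alg Cfsg.Agent.H493.PGE6T

variable {K : Type u} [Field K] [Fintype K] {q : ℕ} (hq : IsPrimePow q) (hK : Fintype.card K = q ^ 2)
  {L : List (Fin 6 × Mat 6)} (hL : ChainOK H493.PGE6T.Am L) {Th : Mat 6}
  (hTh : ∀ j, hd L (H493.TwE6Alg.pi j) = Th j)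
  {f : ℕ} {c : Fin (f + 1) → ℤ} {V : Fin (f + 1) → Fin 6 → ℤ} {U : Fin 6 → ℤ}
  (h : EigOK (fun i j => Th j i) c V U) (hc : c 0 = 1 ∨ c 0 = -1)

include hq hK hL hTh h hc

/-- adjacency to 3 -/
theorem prE_three {r₀ : ℕ} (hr₀ : r₀ < 72)
    (hfix : ∀ m, ∑ j, vec chevE6 6 r₀ j * Th j m = vec chevE6 6 r₀ m)
    (hV : ∀ i, ∑ m, vec chevE6 6 r₀ m * V i m = 0) {r : ℕ} (hr : r.Prime)
    (hr3 : ¬ r ∣ Nat.gcd 3 (q + 1)) (h1 : (r : ℤ) ∣ pv c q) : Pr ↥(twistedE6 K q) r 3 := by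
  have := H493.PGE6.finW
  obtain ⟨p, e, hpF, hpk, he, hqe, hk⟩ := H493.PGE6T.setup hq hK
  have hqe' : (q : ℤ) = ((p ^ e : ℕ) : ℤ) := by rw [hqe]
  rw [hqe'] at h1
  have hroot := (isRoot_iff RGDTwE6.hp CoxeterMatrix.E₆.toCoxeterSystem (vec chevE6 6 r₀)).2 ⟨r₀, hr₀, rfl⟩
  have hlin := H493.PGE6T.lin CoxeterMatrix.E₆.toCoxeterSystem hL hTh
  have hs3 : ¬ p ∣ Nat.gcd 3 (q + 1) := by
    intro h3
    have h4 : p ∣ q + 1 := h3.trans (Nat.gcd_dvd_right _ _)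
    exact hpF.out.one_lt.ne' (Nat.dvd_one.1 ((Nat.dvd_add_right (hqe ▸ dvd_pow_self p he.ne')).1 h4))
  refine pr_three_of_eig RGDTwE6.hp CoxeterMatrix.E₆.toCoxeterSystem hk he isFrob_tau (fr_tau _)
    TorusChar.invC_E6 (by norm_num) (embT_injective (algebraMap K (AlgebraicClosure K)) q) (d := Nat.gcd 3 (q + 1))
    (fun y hy => tau_pow _ hqe hq hK hy) hlin h hc hroot ?_ hV hr hr3 hs3 h1
  funext m
  rw [← hfix m]
  have h3 : vec chevE6 6 r₀ = ∑ j, vec chevE6 6 r₀ j • sr j := TorusChar.IsMC.eq_sum_sr _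
  conv_lhs => rw [h3]
  rw [map_sum, map_sum, Finset.sum_apply]
  refine Finset.sum_congr rfl fun j _ => ?_
  rw [map_zsmul, map_zsmul, hlin, Pi.smul_apply, smul_eq_mul]

end E

end Cfsg.Agent.H564.ThreeTw
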