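import Cfsg.Agent.H564.PglTool
import Cfsg.Agent.H564.ThreeTw
import Cfsg.Agent.H868.KTwE6
import Cfsg.Agent.H378.TwRows
import Cfsg.Agent.H129.CycT2
import Cfsg.Agent.S2130

/-!
# Row `²E₆(u)` for the recognition of `PGL_2(q)` by spectrum (helper564, for S3447)
-/

set_option autoImplicit false

namespace Cfsg.Agent.H564.PglE6

open Subgroup Cfsg Cfsg.Lie Cfsg.Agent.H369.Pgl Cfsg.Agent.H564.NearTwo Cfsg.Agent.H94.PG Cfsg.Agent.H564.PglTool
open Cfsg.Agent.H92.KTools Cfsg.Agent.H92.ExcSL2 Cfsg.Agent.H92.ExcOrd Cfsg.Agent.H868.KSL2 Cfsg.Agent.H868.KTwE6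
open Cfsg.Agent.ChevalleyStructure Cfsg.Agent.ChevalleyStructure.Elts Cfsg.Agent.ChevalleyStructure.SL2Hom
open Cfsg.Agent.H378.TwAdj (Pr)
open Cfsg.Agent.ChevalleyStructure.E6Fixed (hE6 x_mem)
open Cfsg.Agent.H493.PGTorus Cfsg.Agent.H493.PGCyc

section E

variable {F : Type} [Field F]

/-- order 12 -/
theorem ord_twelve [Finite F] {q : ℕ} (hq : IsPrimePow q) (hF : Nat.card F = q ^ 2) : HasOrd (twistedE6 F q) 12 := by
  by_cases h2 : (2 : F) = 0
  · exact (ords_two hq hF h2).2.2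
  have hm1 := neg_one_pow hq hF
  have h4 : orderOf (ph (F := F) hE6 l46 (wel 1 one_ne_zero)) = 4 := by
    have hinj : Function.Injective (ph (F := F) hE6 l46) :=
      ph_injective hE6 (i := 1) (s := chevE6.simple 3) (by decide) (by decide) (by decide) (by decide)
    rw [orderOf_injective _ hinj, orderOf_wel h2]
  have h5 : orderOf (P F (thr F)) = 3 := by
    rw [kerPM_P.orderOf_eq _ (by rw [orderOf_thr]; decide), orderOf_thr]
  have hcomm : Commute (ph (F := F) hE6 l46 (wel 1 one_ne_zero)) (P F (thr F)) :=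
    (ph_commute hE6 l46 l56 (by decide) _ _).mul_right (ph_commute hE6 l46 l36 (by decide) _ _)
  have hmem : ((ph (F := F) hE6 l46 (wel 1 one_ne_zero) : ↥(chevE6.group F)) : GL chevE6.Idx F) ∈ twistedE6 F q := by
    rw [coe_ph, wel_eq, map_mul, map_mul, phi_up hE6 l46, phi_lo hE6 l46]
    refine mul_mem (mul_mem (x_mem (by decide) (one_pow _)) ?_) (x_mem (by decide) (one_pow _))
    exact x_mem (r := 25) (by decide) (by rw [inv_one]; exact hm1)
  have hmem' : ((P F (thr F) : ↥(chevE6.group F)) : GL chevE6.Idx F) ∈ twistedE6 F q := by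
    rw [thr_eq, map_mul, map_mul, map_mul, Subgroup.coe_mul, Subgroup.coe_mul, Subgroup.coe_mul]
    exact mul_mem (mul_mem (mul_mem (P_up_mem (one_pow _)) (P_lo_mem hm1)) (P_up_mem (one_pow _))) (P_up_mem (one_pow _))
  refine hasOrd_of_mem (mul_mem hmem hmem') ?_
  rw [← Subgroup.coe_mul, coe_orderOf, hcomm.orderOf_mul_eq_mul_orderOf_of_coprime (by rw [h4, h5]; norm_num), h4, h5]

variable [Fintype F] {q : ℕ} (hq : IsPrimePow q) (hK : Fintype.card F = q ^ 2)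

include hq hK

/-- two commuting `SL₂(q)` -/
theorem two_sl2 : ∃ (k : Type) (_ : Field k) (_ : Fintype k) (f g : SL2 k →* ↥(twistedE6 F q)), Fintype.card k = q ∧
    KerPM f ∧ KerPM g ∧ ∀ x y, Commute (f x) (g y) := by
  obtain ⟨k, i1, i2, ι, hk, hι⟩ := H343.exists_subfield F hq two_ne_zero hK
  have h1 := ETable.Exc.neg_one_pow_q (K := F) hq 2 two_ne_zero (by rw [Nat.card_eq_fintype_card, hK])
  have key : ∀ i, H343.RootIn ETable.Exc.inList_E6 ι (twistedE6 F q) (![39, 44, 60, 71] i) :=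
    fun i => ⟨ETable.Exc.orth_twE6.lt i,
      fun t => ETable.Exc.X_mem h1 (ETable.Exc.fix_twE6 i).1 (ETable.Exc.fix_twE6 i).2.1 (hι t),
      fun t => ETable.Exc.X_mem h1 (ETable.Exc.fix_twE6 i).2.2.1 (ETable.Exc.fix_twE6 i).2.2.2 (hι t)⟩
  exact ⟨k, i1, i2, (key 0).hom, (key 1).hom, hk, fun _ => (key 0).ker, fun _ => (key 1).ker,
    fun x y => (key 0).comm (key 1) (ETable.Exc.orth_twE6.so 0 1 (by decide)) x y⟩

end E

/-- the Sylow 3-subgroups are not cyclic -/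
theorem not_cyclic_of_sl2 {S : Type*} [Group S] [Finite S] {k : Type*} [Field k] {f g : SL2 k →* S} (hf : KerPM f)
    (hg : KerPM g) (hc : ∀ x y, Commute (f x) (g y)) : ∃ P : Sylow 3 S, ¬ IsCyclic P := by
  have h3 := orderOf_thr (F := k)
  have oA : orderOf (f (thr k)) = 3 := by rw [hf.orderOf_eq _ (by rw [h3]; decide), h3]
  have oB : orderOf (g (thr k)) = 3 := by rw [hg.orderOf_eq _ (by rw [h3]; decide), h3]
  refine not_cyclic_of_pair Nat.prime_three (hc (thr k) (thr k)) oA oB ?_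
  rintro ⟨i, hi⟩
  have hi : (g (thr k)) ^ i = f (thr k) := hi
  have h2 : ∀ x : SL2 k, Commute (f (thr k)) (f x) := by
    intro x
    rw [← hi]
    exact (hc x (thr k)).symm.zpow_left i
  rcases hf.eq_of_commute h2 with h4 | h4
  · rw [h4, orderOf_one] at h3
    norm_num at h3
  · have h5 : (thr k) ^ 2 = 1 := by rw [h4]; simp
    have h6 := orderOf_dvd_of_pow_eq_one h5
    rw [h3] at h6
    norm_num at h6

/-! ### arithmetic -/

/-- the primes of the part adjacent to 3 -/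
theorem cover {q r : ℕ} (hq : 2 ≤ q) (hr : r.Prime)
    (h : r ∣ q ^ 36 * (q ^ 2 - 1) * (q ^ 5 + 1) * (q ^ 6 - 1) * (q ^ 4 - 1) * (q ^ 3 + 1) * ((q ^ 6 - 1) * (q ^ 2 + 1))) :
    r ∣ q ∨ (r : ℤ) ∣ pv c1 q ∨ (r : ℤ) ∣ pv c2 q ∨ (r : ℤ) ∣ pv c3 q ∨ (r : ℤ) ∣ pv c4 q ∨ (r : ℤ) ∣ pv c6 q ∨
      (r : ℤ) ∣ pv c10 q := by
  have h2 : 1 ≤ q ^ 2 := Nat.one_le_pow _ _ (by omega)
  have h6 : 1 ≤ q ^ 6 := Nat.one_le_pow _ _ (by omega)
  have h4 : 1 ≤ q ^ 4 := Nat.one_le_pow _ _ (by omega)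
  have hr' : Prime (r : ℤ) := Nat.prime_iff_prime_int.1 hr
  have h1 := Int.natCast_dvd_natCast.2 h
  push_cast [Nat.cast_sub h2, Nat.cast_sub h6, Nat.cast_sub h4] at h1
  have e : (q : ℤ) ^ 36 * ((q : ℤ) ^ 2 - 1) * ((q : ℤ) ^ 5 + 1) * ((q : ℤ) ^ 6 - 1) * ((q : ℤ) ^ 4 - 1) *
      ((q : ℤ) ^ 3 + 1) * (((q : ℤ) ^ 6 - 1) * ((q : ℤ) ^ 2 + 1)) =
      (q : ℤ) ^ 36 * (pv c1 q * pv c2 q) * (pv c2 q * pv c10 q) * (pv c1 q * pv c2 q * pv c3 q * pv c6 q) *
        (pv c1 q * pv c2 q * pv c4 q) * (pv c2 q * pv c6 q) *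
        (pv c1 q * pv c2 q * pv c3 q * pv c4 q * pv c6 q) := by
    rw [pv_c1, pv_c2, pv_c3, pv_c4, pv_c6, pv_c10]; ring
  rw [e] at h1
  simp only [hr'.dvd_mul] at h1
  by_cases h0 : (r : ℤ) ∣ (q : ℤ) ^ 36
  · exact Or.inl (Int.natCast_dvd_natCast.1 (hr'.dvd_of_dvd_pow h0))
  · tauto

theorem order_eq (q : ℕ) (hq : 1 ≤ q) :
    q ^ 36 * (q ^ 2 - 1) * (q ^ 5 + 1) * (q ^ 6 - 1) * (q ^ 8 - 1) * (q ^ 9 + 1) * (q ^ 12 - 1) =
      (q ^ 36 * (q ^ 2 - 1) * (q ^ 5 + 1) * (q ^ 6 - 1) * (q ^ 4 - 1) * (q ^ 3 + 1) * ((q ^ 6 - 1) * (q ^ 2 + 1))) *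
        (q ^ 6 - q ^ 3 + 1) * ((q ^ 4 + 1) * (q ^ 4 - q ^ 2 + 1)) := by
  have h2 : 1 ≤ q ^ 2 := Nat.one_le_pow _ _ hq
  have h6 : 1 ≤ q ^ 6 := Nat.one_le_pow _ _ hq
  have h4 : 1 ≤ q ^ 4 := Nat.one_le_pow _ _ hq
  have h8 : 1 ≤ q ^ 8 := Nat.one_le_pow _ _ hq
  have h12 : 1 ≤ q ^ 12 := Nat.one_le_pow _ _ hq
  have h36 : q ^ 3 ≤ q ^ 6 := Nat.pow_le_pow_right hq (by norm_num)
  have h24 : q ^ 2 ≤ q ^ 4 := Nat.pow_le_pow_right hq (by norm_num)
  zify [h2, h6, h4, h8, h12, h36, h24]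
  ring

theorem num_lt {q p f : ℕ} (hq : 3 ≤ q) (hp : q ^ 6 - q ^ 3 + 1 ≤ 3 * p) (hf : f < q)
    (h : p ^ 2 ≤ 2 * ((q ^ 4 + 1) * (q ^ 4 - q ^ 2 + 1) * f) + 1) : False := by
  have h36 : q ^ 3 ≤ q ^ 6 := Nat.pow_le_pow_right (by omega) (by norm_num)
  have h24 : q ^ 2 ≤ q ^ 4 := Nat.pow_le_pow_right (by omega) (by norm_num)
  obtain ⟨x, rfl⟩ : ∃ x, q = x + 3 := ⟨q - 3, by omega⟩
  have h1 : (((x + 3) ^ 6 - (x + 3) ^ 3 + 1 : ℕ)) ^ 2 ≤ (3 * p) ^ 2 := Nat.pow_le_pow_left hp 2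
  have h2 : ((x + 3) ^ 4 + 1) * ((x + 3) ^ 4 - (x + 3) ^ 2 + 1) * f ≤
      ((x + 3) ^ 4 + 1) * ((x + 3) ^ 4 - (x + 3) ^ 2 + 1) * (x + 2) := Nat.mul_le_mul_left _ (by omega)
  have h3 : (((x + 3) ^ 6 - (x + 3) ^ 3 + 1 : ℕ)) ^ 2 ≤
      9 * (2 * (((x + 3) ^ 4 + 1) * ((x + 3) ^ 4 - (x + 3) ^ 2 + 1) * (x + 2)) + 1) := by
    calc _ ≤ (3 * p) ^ 2 := h1
      _ = 9 * p ^ 2 := by ring
      _ ≤ _ := Nat.mul_le_mul_left _ (by omega)
  zify [h36, h24] at h3
  have h0 : (0 : ℤ) ≤ x := Int.natCast_nonneg x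
  have key : ((((x : ℤ) + 3) ^ 6 - ((x : ℤ) + 3) ^ 3 + 1)) ^ 2 -
      9 * (2 * ((((x : ℤ) + 3) ^ 4 + 1) * (((x : ℤ) + 3) ^ 4 - ((x : ℤ) + 3) ^ 2 + 1) * (x + 2)) + 1) =
      278704 + 1319310 * x + 2755989 * x ^ 2 + 3390622 * x ^ 3 + 2751876 * x ^ 4 + 1558296 * x ^ 5 +
      633135 * x ^ 6 + 186426 * x ^ 7 + 39573 * x ^ 8 + 5920 * x ^ 9 + 594 * x ^ 10 + 36 * x ^ 11 + (x : ℤ) ^ 12 := by
    ring
  have hpos : (0 : ℤ) < 278704 + 1319310 * x + 2755989 * x ^ 2 + 3390622 * x ^ 3 + 2751876 * x ^ 4 + 1558296 * x ^ 5 +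
      633135 * x ^ 6 + 186426 * x ^ 7 + 39573 * x ^ 8 + 5920 * x ^ 9 + 594 * x ^ 10 + 36 * x ^ 11 + (x : ℤ) ^ 12 := by
    positivity
  linarith

/-- the exponents `m` with `s ∣ p ^ m ± 1` -/
theorem per {s p n t m : ℕ} (h1 : (p : ZMod s) ^ n = 1) (hn : 0 < n)
    (h2 : ∀ j < n, ((p : ZMod s) ^ j = 1 ∨ (p : ZMod s) ^ j = -1) → t ∣ j) (htn : t ∣ n) (hp : 0 < p)
    (h : s ∣ p ^ m - 1 ∨ s ∣ p ^ m + 1) : t ∣ m := by
  have h3 : (p : ZMod s) ^ m = 1 ∨ (p : ZMod s) ^ m = -1 := by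
    rcases h with h | h
    · left
      have h4 := (ZMod.natCast_eq_zero_iff _ s).2 h
      rw [Nat.cast_sub (Nat.one_le_pow _ _ hp)] at h4
      push_cast at h4
      exact sub_eq_zero.1 h4
    · right
      have h4 := (ZMod.natCast_eq_zero_iff _ s).2 h
      push_cast at h4
      exact eq_neg_of_add_eq_zero_left h4
  have h4 : (p : ZMod s) ^ m = (p : ZMod s) ^ (m % n) := by
    conv_lhs => rw [← Nat.div_add_mod m n, pow_add, pow_mul, h1, one_pow, one_mul]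
  rw [h4] at h3
  have h5 := h2 _ (Nat.mod_lt _ hn) h3
  have h6 := Nat.div_add_mod m n
  rw [← h6]
  exact dvd_add (htn.mul_right _) h5

/-! ### the row -/

section Row

open Cfsg.Agent.H564.ThreeTw Cfsg.Agent.H493.PGE6T

variable {K : Type} [Field K] [Fintype K] {u : ℕ} (hu : IsPrimePow u) (hK : Fintype.card K = u ^ 2)

include hu hK

/-- elements of order `3 s` -/
theorem hthree {s : ℕ} (hs : s.Prime) (hs3 : s ≠ 3) (hs2 : s ≠ 2) (h : s ∣ u ∨ (s : ℤ) ∣ pv c1 u ∨ (s : ℤ) ∣ pv c2 u ∨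
    (s : ℤ) ∣ pv c3 u ∨ (s : ℤ) ∣ pv c4 u ∨ (s : ℤ) ∣ pv c6 u ∨ (s : ℤ) ∣ pv c10 u) :
    ∃ g : ↥(twistedE6 K u), s * 3 ∣ orderOf g := by
  have key : Pr ↥(twistedE6 K u) s 3 → ∃ g : ↥(twistedE6 K u), s * 3 ∣ orderOf g := by
    rintro ⟨x, y, hx, hy, hxy⟩
    refine ⟨x * y, ?_⟩
    rw [hxy.orderOf_mul_eq_mul_orderOf_of_coprime (by
      rw [hx, hy]; exact (Nat.coprime_primes hs Nat.prime_three).2 hs3), hx, hy]
  have h3c := natCard_ne_of hu hK hs hs3
  apply key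
  rcases h with h | h | h | h | h | h | h
  · obtain ⟨k, _, _, f, g, hk, hf, hg, hc⟩ := two_sl2 hu hK
    obtain ⟨ℓ, n, hℓ, hn, hℓn⟩ := id hu
    have hℓ := hℓ.nat_prime
    have hsl : s = ℓ := by
      rw [← hℓn] at h
      exact (Nat.prime_dvd_prime_iff_eq hs hℓ).1 (hs.dvd_of_dvd_pow h)
    subst hsl
    have : Fact s.Prime := ⟨hs⟩
    have hchar : CharP k s := by
      obtain ⟨p', hp'⟩ := CharP.exists k
      have hpr : p'.Prime := CharP.char_is_prime k p'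
      have h2 : p' ∣ s ^ n := by
        rw [hℓn, ← hk]
        exact (CharP.cast_eq_zero_iff k p' _).1 (FiniteField.cast_card_eq_zero k)
      rwa [(Nat.prime_dvd_prime_iff_eq hpr hs).1 (hpr.dvd_of_dvd_pow h2)] at hp'
    refine ⟨f (up 1), g (thr k), hf.orderOf_up s, ?_, hc _ _⟩
    rw [hg.orderOf_eq _ (by rw [orderOf_thr]; decide), orderOf_thr]
  · exact prE_three hu hK chainA_ok hThA eigA_1 (by decide) (by decide) fixA vanA_1 hs h3c h
  · exact prE_three hu hK chainA_ok hThA eigA_2 (by decide) (by decide) fixA vanA_2 hs h3c h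
  · exact prE_three hu hK chainB_ok hThB eigB_3 (by decide) (by decide) fixB vanB_3 hs h3c h
  · exact prE_three hu hK chainC_ok hThC eigC_4 (by decide) (by decide) fixC vanC_4 hs h3c h
  · exact prE_three hu hK chainB_ok hThB eigB_6 (by decide) (by decide) fixB vanB_6 hs h3c h
  · exact prE_three hu hK chainD_ok hThD eigD_10 (by decide) (by decide) fixD vanD_10 hs h3c h

omit hu hK in
theorem card_two (h2 : u = 2) (hu : IsPrimePow u) (hK : Fintype.card K = u ^ 2) :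
    Nat.card ↥(twistedE6 K u) = 2 ^ 36 * (33 * 63 * 255 * 513 * 4095) := by
  have h := S1066.result hu hK
  rw [h2] at h ⊢
  norm_num at h ⊢
  omega

/-- **Row `²E₆(u)`** -/
theorem row [IsSimpleGroup ↥(twistedE6 K u)] (hna : ¬ IsMulCommutative ↥(twistedE6 K u)) {p m : ℕ}
    {X : Subgroup (MulAut ↥(twistedE6 K u))} (H : Sit ↥(twistedE6 K u) p m X) : False := by
  have hfin : Finite ↥(twistedE6 K u) := inferInstance
  have hu2 := hu.two_le
  have hK' : Nat.card K = u ^ 2 := by rw [Nat.card_eq_fintype_card, hK]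
  obtain ⟨ℓ, f, hℓ, hf, hℓf⟩ := id hu
  have hℓ := hℓ.nat_prime
  have hℓF : Fact ℓ.Prime := ⟨hℓ⟩
  have hcharP : CharP K ℓ := by
    obtain ⟨p', hp'⟩ := CharP.exists K
    have hpr : p'.Prime := CharP.char_is_prime K p'
    have h2 : p' ∣ u ^ 2 := by
      rw [← hK]
      exact (CharP.cast_eq_zero_iff K p' _).1 (FiniteField.cast_card_eq_zero K)
    have h3 : p' ∣ ℓ ^ f := by rw [hℓf]; exact hpr.dvd_of_dvd_pow h2
    rwa [(Nat.prime_dvd_prime_iff_eq hpr hℓ).1 (hpr.dvd_of_dvd_pow h3)] at hp'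
  have hcard := S1066.result hu hK
  have hout : Nat.card (Cfsg.Out ↥(twistedE6 K u)) = 2 * Nat.gcd 3 (u + 1) * f := by
    subst hℓf
    exact S2130.result ℓ f (by rw [hK, ← pow_mul, mul_comm]) hf
  have haut := card_aut hna
  rw [hout] at haut
  have haut' : Nat.card (MulAut ↥(twistedE6 K u)) = 2 * f *
      (u ^ 36 * (u ^ 2 - 1) * (u ^ 5 + 1) * (u ^ 6 - 1) * (u ^ 8 - 1) * (u ^ 9 + 1) * (u ^ 12 - 1)) := by
    rw [haut, ← hcard]; ring
  have hnear := (H378.TwRows.near_2E6 hu hK H.hp H.dvd).resolve_left (not_near hna H)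
  have h36 : u ^ 3 ≤ u ^ 6 := Nat.pow_le_pow_right (by omega) (by norm_num)
  have hN : ((u ^ 6 - u ^ 3 + 1 : ℕ) : ℤ) = 1 - (u : ℤ) ^ 3 + (u : ℤ) ^ 6 := by
    push_cast [Nat.cast_sub h36]; ring
  have hodp : H378.ExcAdj.od u p = 18 → p ∣ u ^ 6 - u ^ 3 + 1 := by
    intro hod
    have h1 := H378.RegFin.cyclotomic_dvd H.hp hod (by norm_num)
    rw [H378.TwRows.eval_cyc18] at h1
    refine H378.TwRows.int_dvd h1 ?_
    push_cast [Nat.cast_sub h36]
    ring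
  by_cases hu22 : u = 2
  · -- `u = 2`
    have hc2 := card_two hu22 hu hK
    have hf1 : f = 1 := by
      rw [hu22] at hℓf
      have hl2 : ℓ = 2 := by
        have : ℓ ∣ 2 := by rw [← hℓf]; exact dvd_pow_self ℓ hf.ne'
        exact (Nat.prime_dvd_prime_iff_eq hℓ Nat.prime_two).1 this
      rw [hl2] at hℓf
      exact Nat.pow_right_injective (le_refl 2) (by simpa using hℓf)
    obtain ⟨x, hx, hle⟩ := H.kill
    have hxa : orderOf x ≤ Nat.card (MulAut ↥(twistedE6 K u)) := Nat.le_of_dvd Nat.card_pos (orderOf_dvd_natCard x)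
    have hg : Nat.gcd 3 (u + 1) = 3 := by rw [hu22]; rfl
    rw [haut, hc2, hg, hf1] at hxa
    norm_num at hxa
    have hprime : ∀ s : ℕ, s.Prime → s ∣ 2 ^ 36 * (33 * 63 * 255 * 513 * 4095) → s = p ∨ s ∣ p ^ m - 1 ∨ s ∣ p ^ m + 1 :=
      fun s hs hd => H.prime_dvd hna hs (hc2 ▸ hd)
    have hp3 : p = 13 ∨ p = 17 ∨ p = 19 := by
      rcases hnear with h | ⟨-, h | h⟩
      · right; right
        have h1 := hodp h
        rw [hu22] at h1 h
        have h2 : p ∣ 3 * 19 := by norm_num at h1 ⊢; exact h1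
        rcases H.hp.dvd_mul.1 h2 with h3 | h3
        · exfalso
          have h4 := (Nat.prime_dvd_prime_iff_eq H.hp Nat.prime_three).1 h3
          have h5 := H378.ExcNear.mod_of_od H.hp h (by norm_num)
          rw [h4] at h5
          norm_num at h5
        · exact (Nat.prime_dvd_prime_iff_eq H.hp (by norm_num)).1 h3
      · exact Or.inl h
      · exact Or.inr (Or.inl h)
    have hm := H.hm
    rcases hp3 with rfl | rfl | rfl
    · have h9 : 9 ∣ m := per (s := 19) (p := 13) (n := 18) (by decide) (by norm_num) (by decide) (by norm_num) (by norm_num)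
        ((hprime 19 (by norm_num) (by norm_num)).resolve_left (by norm_num))
      have h5 : 5 ∣ m := per (s := 11) (p := 13) (n := 10) (by decide) (by norm_num) (by decide) (by norm_num) (by norm_num)
        ((hprime 11 (by norm_num) (by norm_num)).resolve_left (by norm_num))
      have hm30 : 30 ≤ m := by omega
      have := Nat.pow_le_pow_right (n := 13) (by norm_num) hm30
      omega
    · have h9 : 9 ∣ m := per (s := 19) (p := 17) (n := 18) (by decide) (by norm_num) (by decide) (by norm_num) (by norm_num)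
        ((hprime 19 (by norm_num) (by norm_num)).resolve_left (by norm_num))
      have h5 : 5 ∣ m := per (s := 11) (p := 17) (n := 10) (by decide) (by norm_num) (by decide) (by norm_num) (by norm_num)
        ((hprime 11 (by norm_num) (by norm_num)).resolve_left (by norm_num))
      have hm30 : 30 ≤ m := by omega
      have := Nat.pow_le_pow_right (n := 17) (by norm_num) hm30
      omega
    · have h6 : 6 ∣ m := per (s := 13) (p := 19) (n := 12) (by decide) (by norm_num) (by decide) (by norm_num) (by norm_num)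
        ((hprime 13 (by norm_num) (by norm_num)).resolve_left (by norm_num))
      have h5 : 5 ∣ m := per (s := 11) (p := 19) (n := 10) (by decide) (by norm_num) (by decide) (by norm_num) (by norm_num)
        ((hprime 11 (by norm_num) (by norm_num)).resolve_left (by norm_num))
      have hm30 : 30 ≤ m := by omega
      have := Nat.pow_le_pow_right (n := 19) (by norm_num) hm30
      omega
  · have hu3 : 3 ≤ u := by omega
    have hod : H378.ExcAdj.od u p = 18 := by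
      rcases hnear with h | ⟨h, -⟩
      · exact h
      · exact absurd h hu22
    have hpdvd := hodp hod
    have hp3 : p ≠ 3 := by
      rintro rfl
      have h5 := H378.ExcNear.mod_of_od H.hp hod (by norm_num)
      norm_num at h5
    obtain ⟨T, hT, hT1, hT2, -⟩ := H129.CycT.torus_tE6_18 hu hK hN
    have hpT : p ∣ Nat.card T := by
      have h1 := hpdvd.trans hT2
      rcases H.hp.dvd_mul.1 h1 with h2 | h2
      · exact absurd ((Nat.prime_dvd_prime_iff_eq H.hp Nat.prime_three).1 (h2.trans (Nat.gcd_dvd_left _ _))) hp3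
      · exact h2
    have hTp := eq_of_cyclic hna H hT hpT
    rw [hTp] at hT2
    have hdvd3 : u ^ 6 - u ^ 3 + 1 ∣ 3 * p := hT2.trans (Nat.mul_dvd_mul_right (Nat.gcd_dvd_left _ _) _)
    have hle3 : u ^ 6 - u ^ 3 + 1 ≤ 3 * p := Nat.le_of_dvd (by have := H.hp.pos; omega) hdvd3
    obtain ⟨g12, hg12⟩ := ord_twelve hu hK'
    have h3m : 3 ∣ mm (p ^ m) := (by norm_num : 3 ∣ 12).trans (H.three_dvd_mm hna (g := g12) (by rw [hg12]))
    obtain ⟨k, _, _, F1, F2, hk, hF1, hF2, hc⟩ := two_sl2 hu hK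
    have key := three_card' hna H h3m (not_cyclic_of_sl2 hF1 hF2 hc)
      (A := 2 * ((u ^ 36 * (u ^ 2 - 1) * (u ^ 5 + 1) * (u ^ 6 - 1) * (u ^ 4 - 1) * (u ^ 3 + 1) * ((u ^ 6 - 1) * (u ^ 2 + 1))) *
        (u ^ 6 - u ^ 3 + 1)))
      (B := ((u ^ 4 + 1) * (u ^ 4 - u ^ 2 + 1)) * f) (by
        rw [haut', order_eq u (by omega)]; exact dvd_of_eq (by ring)) (by positivity) ?_
    · refine num_lt (f := f) hu3 hle3 ?_ ?_
      · rw [← hℓf]; exact Nat.lt_pow_self hℓ.one_lt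
      · have := H.sq_le
        omega
    · intro s hs h
      by_cases hs2 : s = 2
      · exact Or.inl hs2
      by_cases hs3 : s = 3
      · exact Or.inr (Or.inl hs3)
      right; right
      rcases hs.dvd_mul.1 h with h | h
      · exact absurd ((Nat.prime_dvd_prime_iff_eq hs Nat.prime_two).1 h) hs2
      · rcases hs.dvd_mul.1 h with h | h
        · right
          obtain ⟨g, hg⟩ := hthree hu hK hs hs3 hs2 (cover hu2 hs h)
          exact ⟨g, Or.inl hg⟩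
        · left
          have h1 := h.trans hdvd3
          rcases hs.dvd_mul.1 h1 with h2 | h2
          · exact absurd ((Nat.prime_dvd_prime_iff_eq hs Nat.prime_three).1 h2) hs3
          · exact (Nat.prime_dvd_prime_iff_eq hs H.hp).1 h2

end Row

theorem row_te6' {S : Type*} [Group S] [Finite S] [IsSimpleGroup S] (hna : ¬ IsMulCommutative S) {p m : ℕ}
    {X : Subgroup (MulAut S)} (H : Sit S p m X) (h : Cfsg.Lie.Iso2E6 S) : False := by
  obtain ⟨K, _, _, u, hu, hK, ⟨e⟩⟩ := h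
  have hs : IsSimpleGroup ↥(twistedE6 K u) := e.symm.isSimpleGroup
  have hna' : ¬ IsMulCommutative ↥(twistedE6 K u) := by
    intro h
    apply hna
    refine ⟨⟨fun a b => e.injective ?_⟩⟩
    rw [map_mul, map_mul]
    exact h.1.1 _ _
  exact row hu hK hna' (H.congr e)

theorem row_te6 {S : Type*} [Group S] [Finite S] [IsSimpleGroup S] (hna : ¬ IsMulCommutative S) {p m : ℕ}
    {X : Subgroup (MulAut S)} (H : Sit S p m X) {u : ℕ} (h : Cfsg.Agent.H436.IsNamed (.te6 u) S) : False := by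
  obtain ⟨K, _, _, hK, ⟨e⟩⟩ := h.real
  exact row_te6' hna H ⟨K, _, _, u, h.cond, hK, ⟨e⟩⟩

end Cfsg.Agent.H564.PglE6
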