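import Cfsg.Agent.H369.PglSit
import Cfsg.Agent.H436.Names
import Cfsg.Agent.H564.SzRee
import Cfsg.Agent.S0324
import Cfsg.Agent.S0330
import Cfsg.Agent.S2126
import Cfsg.Agent.S2127

/-!
# Rows `Sz(u)` and `Ree(u)` for the recognition of `PGL_2(q)` by spectrum (helper564, task PGL-G of S3447)
-/

set_option autoImplicit false

namespace Cfsg.Agent.H564.PglG

open Subgroup Cfsg Cfsg.Agent.H369.Pgl

universe u

/-- bound of the orders of the automorphisms -/
theorem aut_le {S : Type*} [Group S] [Finite S] {f M : ℕ} (hout : Nat.card (Cfsg.Out S) = f) (hf : 0 < f)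
    (hord : ∀ g : S, orderOf g ≤ M) (x : MulAut S) : orderOf x ≤ f * M := by
  have h1 : x ^ f ∈ Cfsg.Inn S := by
    have h2 : ((x : MulAut S) : Cfsg.Out S) ^ f = 1 := by rw [← hout]; exact pow_card_eq_one'
    rw [← QuotientGroup.mk_pow] at h2
    exact (QuotientGroup.eq_one_iff _).1 h2
  obtain ⟨g, hg⟩ := h1
  have h3 : x ^ (f * orderOf g) = 1 := by
    rw [pow_mul, ← hg, ← map_pow, pow_orderOf_eq_one, map_one]
  calc orderOf x ≤ f * orderOf g := orderOf_le_of_pow_eq_one (Nat.mul_pos hf (orderOf_pos g)) h3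
    _ ≤ f * M := Nat.mul_le_mul_left f (hord g)

theorem card_out_congr {S : Type*} {T : Type*} [Group S] [Group T] (e : S ≃* T) :
    Nat.card (Cfsg.Out S) = Nat.card (Cfsg.Out T) := by
  have hmap : (Cfsg.Inn S).map (MulAut.congr e : MulAut S ≃* MulAut T).toMonoidHom = Cfsg.Inn T := by
    ext β
    constructor
    · rintro ⟨_, ⟨s, rfl⟩, rfl⟩
      refine ⟨e s, ?_⟩
      ext t
      simp [MulAut.congr]
    · rintro ⟨t, rfl⟩
      refine ⟨MulAut.conj (e.symm t), ⟨e.symm t, rfl⟩, ?_⟩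
      ext x
      simp [MulAut.congr]
  exact Nat.card_congr (QuotientGroup.congr (Cfsg.Inn S) (Cfsg.Inn T) (MulAut.congr e) hmap).toEquiv

/-- the element orders of the Suzuki groups -/
theorem sz_orders {S : Type*} [Group S] [Finite S] {F : Type} [Field F] [Fintype F] {k : ℕ} (hk : 1 ≤ k)
    (hF : Fintype.card F = 2 ^ (2 * k + 1)) (e : S ≃* ↥(Cfsg.Lie.Sz F (2 ^ (k + 1)))) (g : S) :
    orderOf g ∣ 4 ∨ ∃ N : ℕ, N ∈ ({2 ^ (2 * k + 1) - 1, 2 ^ (2 * k + 1) + 2 ^ (k + 1) + 1,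
      2 ^ (2 * k + 1) - 2 ^ (k + 1) + 1} : Set ℕ) ∧ orderOf g ∣ N ∧ ∃ c : S, orderOf c = N := by
  obtain ⟨e'⟩ := Cfsg.Agent.OddCyclic.ClaimC.SzIso.iso hk hF
  let f : ↥(Cfsg.Sz F k) ≃* S := e'.trans e.symm
  by_cases hg : g = 1
  · left; rw [hg, orderOf_one]; exact one_dvd _
  obtain ⟨U, ⟨h1, h2⟩, -⟩ := Cfsg.Agent.S2238.result hk hF (f.symm g) (by
      intro h
      apply hg
      rw [← f.apply_symm_apply g, h, map_one])
  have ho : orderOf (f.symm g) = orderOf g := f.symm.orderOf_eq g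
  rcases h1 with ⟨P, rfl⟩ | ⟨hc, hN⟩
  · left
    have h3 := (Cfsg.Agent.S0330.result hk hF P).2.1
    have h5 : orderOf (⟨f.symm g, h2⟩ : (P : Subgroup ↥(Cfsg.Sz F k))) ∣ 4 := by
      have h6 := Monoid.order_dvd_exponent (⟨f.symm g, h2⟩ : (P : Subgroup ↥(Cfsg.Sz F k)))
      exact h6.trans (dvd_of_eq h3)
    rwa [Subgroup.orderOf_mk, ho] at h5
  · right
    refine ⟨Nat.card U, hN, ?_, ?_⟩
    · rw [← ho, ← Subgroup.orderOf_mk _ h2]
      exact orderOf_dvd_natCard _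
    · obtain ⟨c, hc⟩ := hc.exists_generator
      refine ⟨f (c : ↥(Cfsg.Sz F k)), ?_⟩
      rw [f.orderOf_eq, Subgroup.orderOf_coe]
      exact orderOf_eq_card_of_forall_mem_zpowers hc

theorem pow_bound (k : ℕ) (hk : 2 ≤ k) : 2 * k + 1 + 2 ≤ 2 ^ (k + 1) := by
  induction k, hk using Nat.le_induction with
  | base => norm_num
  | succ n hn ih =>
    have : 2 ^ (n + 1 + 1) = 2 * 2 ^ (n + 1) := by ring
    omega

theorem num_sz {u r p y : ℕ} (s : ℕ) (hs : 4 ≤ s) (hr : r = 2 * s) (hu : u = 2 * s ^ 2) (hp : u - r + 1 ≤ p)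
    (h1 : p ^ 2 ≤ 2 * y + 1) (h2 : y ≤ (r - 2) * (u + r + 1)) : False := by
  have h3 : (u - r + 1) ^ 2 ≤ p ^ 2 := Nat.pow_le_pow_left hp 2
  have h4 : (u - r + 1) ^ 2 ≤ 2 * ((r - 2) * (u + r + 1)) + 1 := by omega
  have h5 : r ≤ u := by rw [hr, hu]; nlinarith
  have h6 : 2 ≤ r := by omega
  zify [h5, h6] at h4
  have hr' : (r : ℤ) = 2 * s := by exact_mod_cast hr
  have hu' : (u : ℤ) = 2 * s ^ 2 := by exact_mod_cast hu
  rw [hr', hu'] at h4
  have hs' : (4 : ℤ) ≤ s := by exact_mod_cast hs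
  have h7 : 0 ≤ (s : ℤ) ^ 3 * (s - 4) := mul_nonneg (by positivity) (by linarith)
  nlinarith

/-- **Suzuki groups** -/
theorem row_sz' {S : Type*} [Group S] [Finite S] [IsSimpleGroup S] (hna : ¬ IsMulCommutative S) {p m : ℕ}
    {X : Subgroup (MulAut S)} (H : Sit S p m X) {F : Type} [Field F] [Fintype F] {k : ℕ} (hk : 1 ≤ k)
    (hF : Fintype.card F = 2 ^ (2 * k + 1)) (e : S ≃* ↥(Cfsg.Lie.Sz F (2 ^ (k + 1)))) : False := by
  have hout : Nat.card (Cfsg.Out S) = 2 * k + 1 := by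
    rw [card_out_congr e]
    exact Cfsg.Agent.S2126.result hk hF
  have hord := sz_orders hk hF e
  set u := 2 ^ (2 * k + 1) with hu
  set r := 2 ^ (k + 1) with hr
  have hru : r ^ 2 = 2 * u := by rw [hr, hu]; ring
  have hr4 : 4 ≤ r := by
    calc 4 = 2 ^ 2 := rfl
      _ ≤ 2 ^ (k + 1) := Nat.pow_le_pow_right (by norm_num) (by omega)
  have hr2u : 2 * r ≤ u := by nlinarith
  have hle : ∀ g : S, orderOf g ≤ u + r + 1 := by
    intro g
    rcases hord g with h | ⟨N, hN, hd, -⟩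
    · have := Nat.le_of_dvd (by norm_num) h
      omega
    · rcases hN with rfl | rfl | rfl
      · have := Nat.le_of_dvd (by omega) hd; omega
      · have := Nat.le_of_dvd (by omega) hd; omega
      · have := Nat.le_of_dvd (by omega) hd; omega
  have hx : ∀ x : MulAut S, orderOf x ≤ (2 * k + 1) * (u + r + 1) := aut_le hout (by omega) hle
  -- `p` is one of the torus orders
  have hfp : Fact p.Prime := ⟨H.hp⟩
  obtain ⟨g, hg⟩ := exists_prime_orderOf_dvd_card' p H.dvd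
  have hp : p = u - 1 ∨ p = u + r + 1 ∨ p = u - r + 1 := by
    rcases hord g with h | ⟨N, hN, hd, c, hc⟩
    · exfalso
      rw [hg] at h
      exact H.hp2 ((Nat.prime_dvd_prime_iff_eq H.hp Nat.prime_two).1 (H.hp.dvd_of_dvd_pow (show p ∣ 2 ^ 2 from h)))
    · have h1 : orderOf c = p := H.iso hna (by rw [hc, ← hg]; exact hd)
      rw [hc] at h1
      rw [← h1]
      exact hN
  obtain ⟨x, hxX, hxle⟩ := H.kill
  have hxle' := hx x
  have hsq := H.sq_le
  have hru2 : r = 2 * 2 ^ k := by rw [hr]; ring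
  have huk : u = 2 * (2 ^ k) ^ 2 := by rw [hu]; ring
  by_cases hk2 : 2 ≤ k
  · have hb := pow_bound k hk2
    rw [← hr] at hb
    have hpl : u - r + 1 ≤ p := by omega
    exact num_sz (2 ^ k) (by
      calc 4 = 2 ^ 2 := rfl
        _ ≤ 2 ^ k := Nat.pow_le_pow_right (by norm_num) hk2) hru2 huk hpl
      (hsq.trans (by omega : p ^ m ≤ 2 * orderOf x + 1)) (hxle'.trans (Nat.mul_le_mul_right _ (by omega)))
  · have hk1 : k = 1 := by omega
    subst hk1
    have hu8 : u = 8 := by rw [hu]; norm_num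
    have hr4 : r = 4 := by rw [hr]; norm_num
    rw [hu8, hr4] at hp hxle'
    have hcard : Nat.card S = 29120 := by
      obtain ⟨e'⟩ := Cfsg.Agent.OddCyclic.ClaimC.SzIso.iso hk hF
      rw [Nat.card_congr (e.trans e'.symm).toEquiv, Cfsg.Agent.S0324.result hk hF]
      norm_num
    have h78 : p ^ m ≤ 79 := by omega
    have hm3 : p ^ 3 ≤ p ^ m ∨ m = 2 := by
      have := H.hm
      rcases Nat.lt_or_ge m 3 with h | h
      · right; omega
      · left; exact Nat.pow_le_pow_right H.hp.pos h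
    rcases hp with h | h | h
    · norm_num at h
      subst h
      rcases hm3 with h3 | rfl
      · norm_num at h3; omega
      · rcases H.prime_dvd hna (s := 13) (by norm_num) (by rw [hcard]; norm_num) with h | h | h
        · norm_num at h
        · norm_num at h
        · norm_num at h
    · norm_num at h
      subst h
      norm_num at hsq
      omega
    · norm_num at h
      subst h
      rcases hm3 with h3 | rfl
      · norm_num at h3; omega
      · rcases H.prime_dvd hna (s := 7) (by norm_num) (by rw [hcard]; norm_num) with h | h | h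
        · norm_num at h
        · norm_num at h
        · norm_num at h

theorem num_ree {u r p y f : ℕ} (s : ℕ) (hs : 3 ≤ s) (hf : f ≤ s) (hr : r = 3 * s) (hu : u = 3 * s ^ 2)
    (hp : u - r + 1 ≤ p) (h1 : p ^ 2 ≤ 2 * y + 1) (h2 : y ≤ f * (u + r + 1)) : False := by
  have h3 : (u - r + 1) ^ 2 ≤ p ^ 2 := Nat.pow_le_pow_left hp 2
  have h2' : y ≤ s * (u + r + 1) := h2.trans (Nat.mul_le_mul_right _ hf)
  have h4 : (u - r + 1) ^ 2 ≤ 2 * (s * (u + r + 1)) + 1 := by omega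
  have h5 : r ≤ u := by rw [hr, hu]; nlinarith
  zify [h5] at h4
  have hr' : (r : ℤ) = 3 * s := by exact_mod_cast hr
  have hu' : (u : ℤ) = 3 * s ^ 2 := by exact_mod_cast hu
  rw [hr', hu'] at h4
  have hs' : (3 : ℤ) ≤ s := by exact_mod_cast hs
  have h7 : 0 ≤ (s : ℤ) ^ 3 * (s - 3) := mul_nonneg (by positivity) (by linarith)
  have h8 : 0 ≤ (s : ℤ) * (s - 3) := mul_nonneg (by positivity) (by linarith)
  have h9 : 0 < (s : ℤ) ^ 3 := by positivity
  nlinarith

theorem two_k_le (k : ℕ) : 2 * k + 1 ≤ 3 ^ k := by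
  induction k with
  | zero => norm_num
  | succ n ih =>
    have : 3 ^ (n + 1) = 3 * 3 ^ n := by ring
    have h1 : 1 ≤ 3 ^ n := Nat.one_le_pow _ _ (by norm_num)
    omega

/-- **small Ree groups** -/
theorem row_ree' {S : Type*} [Group S] [Finite S] [IsSimpleGroup S] (hna : ¬ IsMulCommutative S) {p m : ℕ}
    {X : Subgroup (MulAut S)} (H : Sit S p m X) {F : Type} [Field F] [Fintype F] {k : ℕ} (hk : 1 ≤ k)
    (hF : Fintype.card F = 3 ^ (2 * k + 1)) (e : S ≃* ↥(Cfsg.Lie.twistedG2 F (3 ^ k))) : False := by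
  have hout : Nat.card (Cfsg.Out S) = 2 * k + 1 := by
    rw [card_out_congr e]
    exact Cfsg.Agent.S2127.result hk hF
  have hord : ∀ d : ℕ, (∃ g : S, orderOf g = d) ↔ (d ∣ 6 ∨ d ∣ 9 ∨ d ∣ 3 ^ (2 * k + 1) - 1 ∨ d ∣ (3 ^ (2 * k + 1) + 1) / 2 ∨
        d ∣ 3 ^ (2 * k + 1) - 3 ^ (k + 1) + 1 ∨ d ∣ 3 ^ (2 * k + 1) + 3 ^ (k + 1) + 1) := by
    intro d
    rw [← Cfsg.Agent.S1159.result hk hF d]
    constructor
    · rintro ⟨g, hg⟩
      exact ⟨e g, by rw [e.orderOf_eq, hg]⟩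
    · rintro ⟨g, hg⟩
      exact ⟨e.symm g, by rw [e.symm.orderOf_eq, hg]⟩
  have hu4 : 3 ^ (2 * k + 1) % 4 = 3 := by
    rw [pow_succ, pow_mul, Nat.mul_mod, Nat.pow_mod]
    norm_num
  have hu : 3 ^ (2 * k + 1) = 3 * (3 ^ k) ^ 2 := by ring
  have hr : 3 ^ (k + 1) = 3 * 3 ^ k := by ring
  have hs3 : 3 ≤ 3 ^ k := by
    calc 3 = 3 ^ 1 := rfl
      _ ≤ 3 ^ k := Nat.pow_le_pow_right (by norm_num) hk
  generalize 3 ^ (k + 1) = r at *
  generalize 3 ^ (2 * k + 1) = u at *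
  have hru : 3 * r ≤ u := by rw [hr, hu]; nlinarith
  have hle : ∀ g : S, orderOf g ≤ u + r + 1 := by
    intro g
    rcases (hord (orderOf g)).1 ⟨g, rfl⟩ with h | h | h | h | h | h
    · have := Nat.le_of_dvd (by norm_num) h; omega
    · have := Nat.le_of_dvd (by norm_num) h; omega
    · have := Nat.le_of_dvd (by omega) h; omega
    · have := Nat.le_of_dvd (by omega) h; omega
    · have := Nat.le_of_dvd (by omega) h; omega
    · exact Nat.le_of_dvd (by omega) h
  have hx : ∀ x : MulAut S, orderOf x ≤ (2 * k + 1) * (u + r + 1) := aut_le hout (by omega) hle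
  have hfp : Fact p.Prime := ⟨H.hp⟩
  obtain ⟨g, hg⟩ := exists_prime_orderOf_dvd_card' p H.dvd
  have hiso : ∀ N : ℕ, (∃ c : S, orderOf c = N) → p ∣ N → N = p := by
    rintro N ⟨c, hc⟩ hd
    rw [← hc]
    exact H.iso hna (by rw [hc]; exact hd)
  have h6 : ¬ p ∣ 6 := by
    intro h
    have h1 := hiso 6 ((hord 6).2 (Or.inl dvd_rfl)) h
    have := H.hp
    rw [← h1] at this
    exact absurd this (by norm_num)
  have hp : u - r + 1 ≤ p := by
    rcases (hord p).1 ⟨g, hg⟩ with h | h | h | h | h | h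
    · exact absurd h h6
    · exfalso
      have h' : p ∣ 3 ^ 2 := h
      exact h6 ((H.hp.dvd_of_dvd_pow h').trans (by norm_num))
    · exfalso
      have h1 := hiso _ ((hord _).2 (Or.inr (Or.inr (Or.inl dvd_rfl)))) h
      have h2 := H.hp.odd_of_ne_two H.hp2
      rw [← h1, Nat.odd_iff] at h2
      omega
    · exfalso
      have h1 := hiso _ ((hord _).2 (Or.inr (Or.inr (Or.inr (Or.inl dvd_rfl))))) h
      have h2 := H.hp.odd_of_ne_two H.hp2
      rw [← h1, Nat.odd_iff] at h2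
      omega
    · have h1 := hiso _ ((hord _).2 (Or.inr (Or.inr (Or.inr (Or.inr (Or.inl dvd_rfl)))))) h
      omega
    · have h1 := hiso _ ((hord _).2 (Or.inr (Or.inr (Or.inr (Or.inr (Or.inr dvd_rfl)))))) h
      omega
  obtain ⟨x, hxX, hxle⟩ := H.kill'
  exact num_ree (3 ^ k) hs3 (two_k_le k) hr hu hp (by omega) (hx x)

theorem row_ree {S : Type*} [Group S] [Finite S] [IsSimpleGroup S] (hna : ¬ IsMulCommutative S) {p m : ℕ}
    {X : Subgroup (MulAut S)} (H : Sit S p m X) (h : Cfsg.Lie.IsoRee S) : False := by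
  obtain ⟨F, _, _, k, hk, hF, ⟨e⟩⟩ := h
  exact row_ree' hna H hk hF e

/-- the rows in terms of names -/
theorem row_sz_named {S : Type u} [Group S] [Finite S] [IsSimpleGroup S] (hna : ¬ IsMulCommutative S) {p m : ℕ}
    {X : Subgroup (MulAut S)} (H : Sit S p m X) {q : ℕ} (h : Cfsg.Agent.H436.IsNamed (.sz q) S) : False := by
  obtain ⟨F, _, _, k, hk, hF, hq, ⟨e⟩⟩ := h.real
  exact row_sz' hna H hk (hF.trans hq) e

theorem row_ree_named {S : Type u} [Group S] [Finite S] [IsSimpleGroup S] (hna : ¬ IsMulCommutative S) {p m : ℕ}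
    {X : Subgroup (MulAut S)} (H : Sit S p m X) {q : ℕ} (h : Cfsg.Agent.H436.IsNamed (.ree q) S) : False := by
  obtain ⟨F, _, _, k, hk, hF, hq, ⟨e⟩⟩ := h.real
  exact row_ree' hna H hk (hF.trans hq) e

theorem row_sz {S : Type*} [Group S] [Finite S] [IsSimpleGroup S] (hna : ¬ IsMulCommutative S) {p m : ℕ}
    {X : Subgroup (MulAut S)} (H : Sit S p m X) (h : Cfsg.Lie.IsoSuzuki S) : False := by
  obtain ⟨F, _, _, k, hk, hF, ⟨e⟩⟩ := h
  exact row_sz' hna H hk hF e

end Cfsg.Agent.H564.PglG
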