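import Cfsg.Agent.H564.TwistedClass
import Cfsg.Agent.H388.EvenFixAll

/-!
# Automorphisms of odd order of the known simple groups fix a class of involutions (helper564, for S4313)

* `OddAut K` : automorphisms of odd order are inner (alternating of degree at least 7, sporadic, Tits);
* `oddFix` : `K` a known nonabelian simple group, `x` an automorphism of odd order: `x` maps some involution to a
  conjugate of it. (In fact for Lie type groups this holds for all automorphisms.)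
-/

set_option autoImplicit false

namespace Cfsg.Agent.H564.OutOdd

open Subgroup Cfsg Cfsg.Agent.CpAut Cfsg.Agent.H388.EvenFixAll

universe u v

/-- automorphisms of odd order are inner -/
def OddAut (K : Type*) [Group K] : Prop := ∀ x : MulAut K, Odd (orderOf x) → ∃ g : K, x = MulAut.conj g

theorem OddAut.congr {K : Type u} {L : Type v} [Group K] [Group L] (e : K ≃* L) (h : OddAut L) : OddAut K := by
  intro x hx
  obtain ⟨g, hg⟩ := h (MulAut.congr e x) (by rwa [MulEquiv.orderOf_eq])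
  refine ⟨e.symm g, ?_⟩
  ext a
  have h1 := congrArg (fun f : MulAut L => e.symm (f (e a))) hg
  simpa [MulAut.congr] using h1

theorem of_inner {K : Type*} [Group K] (h : ∀ x : MulAut K, ∃ g : K, x = MulAut.conj g) : OddAut K := fun x _ => h x

theorem of_inner' {K : Type*} [Group K] (h : ∀ x : MulAut K, x ∈ (MulAut.conj : K →* MulAut K).range) : OddAut K :=
  of_inner fun x => by
    obtain ⟨g, hg⟩ := h x
    exact ⟨g, hg.symm⟩

/-- the square of every automorphism is inner -/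
theorem of_sq {K : Type*} [Group K] (h : ∀ x : MulAut K, ∃ g : K, x * x = MulAut.conj g) : OddAut K := by
  rintro x ⟨k, hk⟩
  obtain ⟨g, hg⟩ := h x
  refine ⟨g ^ (k + 1), ?_⟩
  rw [map_pow, ← hg, ← pow_two, ← pow_mul, show 2 * (k + 1) = (2 * k + 1) + 1 by ring, pow_succ, ← hk,
    pow_orderOf_eq_one, one_mul]

theorem of_pow {K : Type*} [Group K] (h : ∀ x : MulAut K, x ^ 2 ∈ (MulAut.conj : K →* MulAut K).range) : OddAut K :=
  of_sq fun x => by
    obtain ⟨g, hg⟩ := h x
    exact ⟨g, by rw [hg, pow_two]⟩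

theorem of_dvd_two {K : Type*} [Group K] (h : (MulAut.conj : K →* MulAut K).range.index ∣ 2) : OddAut K := by
  have hn := Cfsg.Agent.OddHalf.Quat.NoThree.normal_inn (K := K)
  refine of_pow fun x => ?_
  obtain ⟨m, hm⟩ := h
  rw [hm, pow_mul]
  exact pow_mem (Subgroup.pow_index_mem _ x) m

theorem of_index {K : Type*} [Group K] (h : (MulAut.conj : K →* MulAut K).range.index = 1 ∨
    (MulAut.conj : K →* MulAut K).range.index = 2) : OddAut K :=
  of_dvd_two (by rcases h with h | h <;> rw [h]; norm_num)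

theorem of_mul_inv {K : Type*} [Group K] (h : ∀ a b : MulAut K, (∀ u, a ≠ MulAut.conj u) →
    (∀ u, b ≠ MulAut.conj u) → ∃ u : K, b * a⁻¹ = MulAut.conj u) : OddAut K := by
  refine of_sq fun x => ?_
  by_cases hx : ∃ u, x = MulAut.conj u
  · obtain ⟨u, rfl⟩ := hx
    exact ⟨u * u, by rw [map_mul]⟩
  · push Not at hx
    obtain ⟨u, hu⟩ := h x⁻¹ x (fun v hv => hx v⁻¹ (by rw [map_inv, ← hv, inv_inv])) hx
    exact ⟨u, by rw [← hu, inv_inv]⟩

theorem of_mem_or_mem {K : Type*} [Group K] {a : MulAut K} (ha : a * a = 1)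
    (h : ∀ φ : MulAut K, φ ∈ (MulAut.conj : K →* MulAut K).range ∨ a * φ ∈ (MulAut.conj : K →* MulAut K).range) :
    OddAut K := by
  apply of_pow
  intro α
  rcases h α with h1 | ⟨x, hx⟩
  · exact pow_mem h1 2
  · have h2 : α = a * MulAut.conj x := by rw [hx, ← mul_assoc, ha, one_mul]
    refine ⟨a x * x, ?_⟩
    rw [h2, pow_two]
    ext u
    have h3 : ∀ v : K, a (a v) = v := fun v => by
      rw [← MulAut.mul_apply, ha, MulAut.one_apply]
    simp only [MulAut.mul_apply, MulAut.conj_apply, map_mul, map_inv, h3, mul_inv_rev, mul_assoc]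

/-! ### the sporadic groups -/

theorem m11 {K : Type*} [Group K] (h : Spor.IsoM11 K) : OddAut K := by
  have : Finite K := by
    obtain ⟨e⟩ := h
    exact Finite.of_equiv _ e.symm.toEquiv
  exact of_inner (Cfsg.Agent.UGT.End.MEleven.inner h)

theorem m12 {K : Type*} [Group K] (h : Spor.IsoM12 K) : OddAut K := by
  obtain ⟨e⟩ := h
  exact OddAut.congr e (of_mem_or_mem Cfsg.Agent.OddHalf.Table.OutMTwelve.al_mul_al
    Cfsg.Agent.OddHalf.Table.OutMTwelve.mem_or_mem)

theorem m22 {K : Type*} [Group K] (h : Spor.IsoM22 K) : OddAut K := by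
  obtain ⟨e⟩ := h
  refine OddAut.congr e (of_pow fun φ => ?_)
  obtain ⟨d, hd, hφ⟩ := Cfsg.Agent.J4Type.Aut22.exists_conj φ
  refine ⟨⟨d * d, Cfsg.Agent.BpSpor.Inn.sq_mem_M22 hd⟩, ?_⟩
  ext1 x
  apply Subtype.ext
  show d * d * (x : Equiv.Perm GolayPt) * (d * d)⁻¹ = (((φ ^ 2) x : ↥Spor.M22) : Equiv.Perm GolayPt)
  rw [pow_two, MulAut.mul_apply, hφ, hφ]
  group

theorem m23 {K : Type*} [Group K] (h : Spor.IsoM23 K) : OddAut K := by
  obtain ⟨e⟩ := h
  exact OddAut.congr e (of_inner fun α => Cfsg.Agent.UGT.MTwentyThree.Aut.exists_conj α)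

theorem m24 {K : Type*} [Group K] (h : Spor.IsoM24 K) : OddAut K := by
  obtain ⟨e⟩ := h
  exact OddAut.congr e (of_inner fun α => Cfsg.Agent.KFacts.M24Two.Out.exists_conj α)

theorem j1 {K : Type*} [Group K] (h : Spor.IsoJ1 K) : OddAut K := by
  obtain ⟨e⟩ := h
  exact OddAut.congr e (of_inner fun α => Cfsg.Agent.OddHalf.D4.Spor.J1Out.inn α)

section J2

open Equiv Cfsg.Agent.OddHalf.Table Cfsg.Agent.OddHalf.Table.OutJ2 Cfsg.Agent.SporadicA.PermTab
open Cfsg.Agent.SporadicA.J2Data Cfsg.Agent.SporadicA.J2Hundred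

theorem hundred : OddAut G := by
  apply of_mul_inv
  intro a b ha hb
  refine CycNorm.mul_inv_inner_of (X := G) (p := 7) (m := 3) (N := 3) (by norm_num) (x := ⟨x, x_mem⟩)
    (f := ⟨f, f_mem⟩) (y := ⟨y, y_mem⟩) ?_ ?_ ?_ ?_ (by decide) (by decide) ?_ ?_ ?_ ?_ ?_ closure_eq ha hb
  · rw [Subgroup.orderOf_mk]; exact order_x
  · rw [card_G]; norm_num
  · rintro ⟨c, hc⟩ h
    obtain ⟨i, hi⟩ := cent_x hc (congrArg Subtype.val h)
    exact ⟨i, Subtype.ext hi⟩
  · exact Subtype.ext fx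
  · rw [Subgroup.orderOf_mk]; exact order_f
  · exact Subtype.ext y2
  · exact Subtype.ext yf
  · intro i h
    exact y_ne_pow i (congrArg Subtype.val h)
  · rintro ⟨c, hc⟩ h
    obtain ⟨i, hi | hi⟩ := cent_f hc (congrArg Subtype.val h)
    · exact ⟨i, Or.inl (Subtype.ext hi)⟩
    · exact ⟨i, Or.inr (Subtype.ext hi)⟩

end J2

theorem j2 {K : Type*} [Group K] (h : Spor.IsoJ2 K) : OddAut K := by
  obtain ⟨e⟩ := h
  obtain ⟨f⟩ := Cfsg.Agent.J2.HundredGens.J2_iso Cfsg.Agent.S1619.result.2.2.2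
  exact OddAut.congr (e.trans f) hundred

theorem j3 {K : Type*} [Group K] (h : Spor.IsoJ3 K) : OddAut K := by
  obtain ⟨z, Q, v, ρ, M, hc, hi, hs⟩ := Cfsg.Agent.OddHalf.D8.RowJ3.sheet' K h
  exact of_index hi

theorem j4 {K : Type*} [Group K] (h : Spor.IsoJ4 K) : OddAut K := by
  obtain ⟨h1, h2, ⟨F⟩⟩ := Cfsg.Agent.KFacts.J4.Base.exists_full h
  exact of_inner (Cfsg.Agent.KFacts.J4.SheetJ4.inner F)

theorem co1 {K : Type*} [Group K] (h : Spor.IsoCo1 K) : OddAut K := by
  obtain ⟨e⟩ := h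
  refine OddAut.congr e (of_inner fun α => ?_)
  obtain ⟨s, hs⟩ := Cfsg.Agent.ConwayFacts.AutCo1.inner α
  exact ⟨s, MulEquiv.ext fun g => by rw [hs, MulAut.conj_apply]⟩

theorem co2 {K : Type*} [Group K] (h : Spor.IsoCo2 K) : OddAut K := by
  obtain ⟨e⟩ := h
  have := Cfsg.Agent.Schreier.CoTwoStab.finite
  exact OddAut.congr e (of_inner fun α => Cfsg.Agent.KFacts.CoTwo.QuotInst.dataT.allInner α)

theorem co3 {K : Type*} [Group K] (h : Spor.IsoCo3 K) : OddAut K := by
  obtain ⟨e⟩ := h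
  exact of_inner fun α =>
    Cfsg.Agent.KFacts.Co3.Sheet.inner_of (e.trans Cfsg.Agent.SporRec.Co3.Model.equivCo3.symm).symm α

theorem mcl {K : Type*} [Group K] (h : Spor.IsoMcL K) : OddAut K := by
  obtain ⟨hfin, hs, hcard, ⟨L⟩⟩ := Cfsg.Agent.TypeM.FactsMcL.facts h
  intro α hα
  obtain ⟨g, hg⟩ := Cfsg.Agent.UGT.End.McLOuter.inner_of_odd L hcard α hα
  exact ⟨g, hg.symm⟩

section HS

open Cfsg.Agent.SporadicA.PermTab Cfsg.Agent.HN.HS100 Cfsg.Agent.HN.AutBound Cfsg.Agent.HN.AutHS Equiv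

theorem hs_Q : OddAut Q := by
  refine of_pow fun α => ?_
  obtain ⟨p, hp, h⟩ := exists_perm α
  have hpp : p * p ∈ Q := mem_Q_iff.2 ⟨mul_mem hp hp, by rw [map_mul, Int.units_mul_self]⟩
  refine ⟨⟨p * p, hpp⟩, ?_⟩
  ext1 x
  apply Subtype.ext
  show p * p * (x : Perm (Fin 100)) * (p * p)⁻¹ = (((α ^ 2) x : Q) : Perm (Fin 100))
  rw [pow_two, MulAut.mul_apply, h, h]
  group

theorem hs {K : Type*} [Group K] (h : Spor.IsoHS K) : OddAut K := by
  obtain ⟨e⟩ := h
  obtain ⟨f⟩ := nonempty_Q.1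
  exact OddAut.congr (e.trans f.symm) hs_Q

end HS

theorem suz {K : Type*} [Group K] (h : Spor.IsoSuz K) : OddAut K := by
  obtain ⟨e⟩ := h
  exact OddAut.congr e (of_index Cfsg.Agent.KFacts.SuzOut.index_eq)

theorem he {K : Type*} [Group K] (h : Spor.IsoHe K) : OddAut K :=
  of_index (Cfsg.Agent.KFacts.He.Outer.index_le_two h)

theorem ru {K : Type*} [Group K] (h : Spor.IsoRu K) : OddAut K := by
  obtain ⟨e⟩ := h
  exact OddAut.congr (e.trans RuLat.Main.equiv) (of_inner Cfsg.Agent.OddHalf.Table.OutRu.inner)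

theorem on {K : Type*} [Group K] (h : Spor.IsoON K) : OddAut K := by
  obtain ⟨e⟩ := h
  refine OddAut.congr e (of_index ?_)
  have h1 := Cfsg.Agent.KFacts.ON.Aut.index_le
  have h2 := Cfsg.Agent.KFacts.ON.Aut.finite_aut
  have h0 : (MulAut.conj : Cfsg.Spor.ON →* MulAut Cfsg.Spor.ON).range.index ≠ 0 := Subgroup.index_ne_zero_of_finite
  omega

theorem ly {K : Type*} [Group K] (h : Spor.IsoLy K) : OddAut K :=
  of_inner' (Cfsg.Agent.TypeM.OutLyFin.inner h)

theorem fi22 {K : Type*} [Group K] (h : Spor.IsoFi22 K) : OddAut K := by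
  obtain ⟨e⟩ := h
  refine OddAut.congr e (of_sq fun α => ?_)
  by_cases hα : ∃ x, α = MulAut.conj x
  · obtain ⟨x, rfl⟩ := hα
    exact ⟨x * x, by rw [map_mul]⟩
  · push Not at hα
    exact Cfsg.Agent.OddHalf.Table.OutFi22.mul_outer α α hα hα

theorem fi23 {K : Type*} [Group K] (h : Spor.IsoFi23 K) : OddAut K := by
  obtain ⟨e⟩ := h
  exact OddAut.congr e (of_inner Cfsg.Agent.KFacts.FiTTh.Has.inn)

theorem fi24 {K : Type*} [Group K] (h : Spor.IsoFi24' K) : OddAut K := by
  obtain ⟨e⟩ := h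
  exact OddAut.congr e (of_dvd_two Cfsg.Agent.KFacts.FiTF.out)

theorem hn {K : Type*} [Group K] (h : Spor.IsoHN K) : OddAut K := by
  obtain ⟨e⟩ := h
  exact OddAut.congr e (of_index Cfsg.Agent.KFacts.HN.out_index)

theorem th {K : Type*} [Group K] (h : Spor.IsoTh K) : OddAut K := by
  obtain ⟨e⟩ := h
  exact OddAut.congr e (of_inner Cfsg.Agent.KFacts.Th.Main.inner)

section B

open Cfsg.Agent.BabyM Cfsg.Agent.BabyM.Model Cfsg.Agent.BabyU.ClosModel Cfsg.Agent.BabyU.ClosLane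

theorem b {K : Type*} [Group K] (h : Spor.IsoB K) : OddAut K := by
  have := A.finite_G
  obtain ⟨e⟩ := h
  obtain ⟨f⟩ := Cfsg.Agent.KFacts.Baby.RowB.exists_iso ⟨MulEquiv.refl Cfsg.Spor.BabyMonster⟩
  exact OddAut.congr (e.trans f.symm) (of_inner
    (Cfsg.Agent.KFacts.Baby.Sheet.data Cfsg.Agent.KFacts.CoTwo.InnerB.inner Cfsg.Agent.KFacts.Baby.Row.fix).allInner)

end B

section M

open Cfsg.Spor (Co1)
open Cfsg.Agent.MonsterX Cfsg.Agent.MonsterX.Model Cfsg.Agent.MonsterX.MainSimple Cfsg.Agent.MonsterX.MainBasic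

theorem m_model {W : Type} [AddCommGroup W] [Module ℚ W] {M : MData W} (hG : MGroup M Co1) (hR : MRep M)
    (hL : MLat M) (hO : MOrbit M) (hT : MTrans M) : OddAut M.G := by
  have hfin := G_finite hO
  have hco := Cfsg.Agent.KFacts.MonsterE.simple_Co1
  obtain ⟨π, D⟩ := Cfsg.Agent.KFacts.MonsterE.data_model hG hR hL hO hT
  exact of_inner D.inner

theorem m {K : Type*} [Group K] (h : Spor.IsoM K) : OddAut K := by
  obtain ⟨e⟩ := h
  obtain ⟨f⟩ := Cfsg.Agent.MonsterP.Equiv.equiv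
  exact OddAut.congr (e.trans f) (m_model Instance.mGroup Instance.mRep Instance.mLat InstanceFinal.mOrbit
    Instance.mTrans)

end M

theorem sporadic {K : Type*} [Group K] (h : IsSporadicGroup K) : OddAut K := by
  rcases h with h | h | h | h | h | h | h | h | h | h | h | h | h | h | h | h | h | h |
      h | h | h | h | h | h | h | h
  · exact m11 h
  · exact m12 h
  · exact m22 h
  · exact m23 h
  · exact m24 h
  · exact j1 h
  · exact j2 h
  · exact j3 h
  · exact j4 h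
  · exact co1 h
  · exact co2 h
  · exact co3 h
  · exact mcl h
  · exact hs h
  · exact suz h
  · exact he h
  · exact ru h
  · exact on h
  · exact ly h
  · exact fi22 h
  · exact fi23 h
  · exact fi24 h
  · exact hn h
  · exact th h
  · exact b h
  · exact m h

/-! ### alternating groups and the Tits group -/

theorem alt {n : ℕ} (hn : 7 ≤ n) : OddAut ↥(alternatingGroup (Fin n)) := by
  apply of_sq
  intro φ
  obtain ⟨m, rfl⟩ : ∃ m, n = m + 2 := ⟨n - 2, by omega⟩
  obtain ⟨σ, hσ⟩ := StandardComponent.AltAut.exists_conj (m := m) (by omega) φ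
  have hs : σ * σ ∈ alternatingGroup (Fin (m + 2)) := by
    rw [Equiv.Perm.mem_alternatingGroup, map_mul]
    exact Int.units_mul_self _
  refine ⟨⟨σ * σ, hs⟩, ?_⟩
  apply MulEquiv.ext
  intro x
  apply Subtype.ext
  rw [MulAut.mul_apply, hσ, hσ]
  show σ * (σ * (x : Equiv.Perm (Fin (m + 2))) * σ⁻¹) * σ⁻¹ = σ * σ * (x : Equiv.Perm (Fin (m + 2))) * (σ * σ)⁻¹
  group

theorem tt : OddAut ↥Cfsg.Agent.TitsK.TT := by
  have hfin : Finite Cfsg.Agent.FourTwo.Base.LL := by infer_instance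
  have h := Cfsg.Agent.TitsK.tdata.index_inn
  exact of_dvd_two h

theorem tits {K : Type*} [Group K] (h : Lie.IsoTits K) : OddAut K := by
  obtain ⟨e⟩ := Cfsg.Agent.CpAutTits.Row.exists_equiv h
  exact OddAut.congr (L := ↥Cfsg.Agent.TitsK.TT) e tt

/-- **Automorphisms of odd order of the known simple groups fix a class of involutions.** -/
theorem oddFix {K : Type*} [Group K] [Finite K] [IsSimpleGroup K] (hna : ¬ IsMulCommutative K)
    (hK : IsKnownSimple' K) (x : MulAut K) (hx : Odd (orderOf x)) :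
    ∃ s g : K, orderOf g = 2 ∧ s * x g * s⁻¹ = g := by
  have key : OddAut K → ∃ s g : K, orderOf g = 2 ∧ s * x g * s⁻¹ = g := by
    intro hi
    obtain ⟨g, hg⟩ := exists_orderOf_two hna
    obtain ⟨k, rfl⟩ := hi x hx
    exact ⟨k⁻¹, g, hg, by rw [MulAut.conj_apply]; group⟩
  have lie : ∀ p : ℕ, p.Prime → IsLieTypeChar p K → ∃ s g : K, orderOf g = 2 ∧ s * x g * s⁻¹ = g := by
    intro p hp h
    have : Fact p.Prime := ⟨hp⟩
    exact TwistedClass.exists_class_of_hasSplit (hasSplit_of_lie hp h) x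
  rcases OddHalf.Known.classify hna hK with h | ⟨p, hp, -, h⟩ | (h | h) | h
  · obtain ⟨n, hn, ⟨e⟩⟩ := h
    rcases (show n = 5 ∨ n = 6 ∨ 7 ≤ n by omega) with rfl | rfl | h7
    · let _ : Fintype (GaloisField 2 2) := Fintype.ofFinite _
      have hF : Fintype.card (GaloisField 2 2) = 4 := by
        rw [Fintype.card_eq_nat_card, GaloisField.card 2 2 (by norm_num)]; norm_num
      obtain ⟨f⟩ := S0252.result hF
      exact lie 2 Nat.prime_two (Or.inl ⟨GaloisField 2 2, inferInstance, inferInstance, inferInstance, 2, le_rfl,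
        fun _ => hF.ge, ⟨e.trans f.symm⟩⟩)
    · let _ : Fintype (GaloisField 3 2) := Fintype.ofFinite _
      have hF : Fintype.card (GaloisField 3 2) = 9 := by
        rw [Fintype.card_eq_nat_card, GaloisField.card 3 2 (by norm_num)]; norm_num
      obtain ⟨f⟩ := S0254.result hF
      exact lie 3 Nat.prime_three (Or.inl ⟨GaloisField 3 2, inferInstance, inferInstance, inferInstance, 2, le_rfl,
        fun _ => by rw [hF]; norm_num, ⟨e.trans f.symm⟩⟩)
    · exact key ((alt h7).congr e)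
  · exact lie p hp h
  · exact lie 2 Nat.prime_two h
  · exact key (tits h)
  · exact key (sporadic h)

end Cfsg.Agent.H564.OutOdd
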