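import Cfsg.Agent.H94.AltAC
import Cfsg.Agent.H564.Near
import Cfsg.Prelude.Def_Classification2

/-!
# The alternating groups: `AC1`, `Good2` (helper564; the proof is that of `H94/AltAC.lean` with `Adj` for `Conn`)
-/

set_option autoImplicit false
set_option linter.unusedVariables false

namespace Cfsg.Agent.H564.AltPG

open Subgroup Equiv Cfsg.Agent.H94.PG Cfsg.Agent.H564.NearTwo

section

variable {α : Type*} [Fintype α] [DecidableEq α]

theorem odd_card {x : alternatingGroup α} (hx : (orderOf x).Prime) (h2 : orderOf x ≠ 2)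
    (hn : ¬ Adj (alternatingGroup α) (orderOf x) 2) :
    ¬ 2 ∣ Nat.card (centralizer ({(x : Perm α)} : Set (Perm α)) ⊓ alternatingGroup α : Subgroup (Perm α)) := by
  intro h
  have : Fact (Nat.Prime 2) := ⟨Nat.prime_two⟩
  obtain ⟨u, hu⟩ := exists_prime_orderOf_dvd_card' 2 h
  apply hn
  have h1 := u.2
  have h3 : Commute (⟨(u : Perm α), h1.2⟩ : alternatingGroup α) x := by
    apply Subtype.ext
    exact mem_centralizer_singleton_iff.1 h1.1
  refine adj_of_dvd hx Nat.prime_two h2 h3.symm dvd_rfl ?_ (orderOf_pos _).ne' (orderOf_pos _).ne'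
  rw [Subgroup.orderOf_mk, Subgroup.orderOf_coe, hu]

theorem not_four_dvd {x : alternatingGroup α} (hx : (orderOf x).Prime) (h2 : orderOf x ≠ 2)
    (hn : ¬ Adj (alternatingGroup α) (orderOf x) 2) :
    ¬ 4 ∣ Nat.card (centralizer ({(x : Perm α)} : Set (Perm α))) := by
  intro h
  obtain ⟨d, hd, he⟩ := centralizer_inf x.2
  have h1 := odd_card hx h2 hn
  rw [he] at h
  have hd2 : d ≤ 2 := Nat.le_of_dvd (by norm_num) hd
  have hd0 : 0 < d := Nat.pos_of_dvd_of_pos hd (by norm_num)
  have h3 : d = 1 ∨ d = 2 := by omega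
  rcases h3 with rfl | rfl
  · rw [mul_one] at h
    exact h1 (dvd_trans (by norm_num) h)
  · have h4 : (2 : ℕ) * 2 ∣ Nat.card (centralizer ({(x : Perm α)} : Set (Perm α)) ⊓ alternatingGroup α : Subgroup (Perm α)) * 2 := h
    exact h1 (Nat.dvd_of_mul_dvd_mul_right (by norm_num) h4)

/-- **alternating groups** -/
theorem ac1_alt (α : Type*) [Fintype α] [DecidableEq α] : AC1 (alternatingGroup α) := by
  intro x hx hs2 hn a b ha hb
  set s := orderOf x with hs
  have hs3 : 3 ≤ s := by
    have := hx.two_le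
    omega
  have hsodd : Odd s := hx.odd_of_ne_two hs2
  have hso : orderOf (x : Perm α) = s := Subgroup.orderOf_coe x
  obtain ⟨k, hk⟩ := Perm.cycleType_prime_order (σ := (x : Perm α)) (by rw [hso]; exact hx)
  rw [hso] at hk
  have hsum : (k + 1) * s ≤ Fintype.card α := by
    have h1 := ((Perm.exists_with_cycleType_iff α (m := (x : Perm α).cycleType)).1 ⟨x, rfl⟩).1
    rw [hk, Multiset.sum_replicate, smul_eq_mul] at h1
    exact h1
  -- an `s`-cycle
  have hsn : s ≤ Fintype.card α := by nlinarith
  obtain ⟨y, hy⟩ := (Perm.exists_with_cycleType_iff α (m := {s})).2 ⟨by simpa using hsn, by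
    intro a ha
    rw [Multiset.mem_singleton] at ha
    omega⟩
  have hyo : orderOf y = s := by
    rw [← Perm.lcm_cycleType, hy]
    simp
  have hyA : y ∈ alternatingGroup α := by
    rw [Perm.mem_alternatingGroup, Perm.sign_of_cycleType, hy]
    simp only [Multiset.sum_singleton, Multiset.card_singleton]
    exact (hsodd.add_odd odd_one).neg_one_pow
  have hf : Fintype.card α ≤ s + 3 := by
    by_contra hcon
    push Not at hcon
    have h1 := not_four_dvd (x := ⟨y, hyA⟩) (by rw [Subgroup.orderOf_mk, hyo]; exact hx)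
      (by rw [Subgroup.orderOf_mk, hyo]; exact hs2) (by rw [Subgroup.orderOf_mk, hyo]; exact hn)
    apply h1
    change 4 ∣ Nat.card (centralizer ({y} : Set (Perm α)))
    rw [Perm.nat_card_centralizer, hy]
    apply Dvd.dvd.mul_right
    apply Dvd.dvd.mul_right
    have h2 : 4 ≤ Fintype.card α - ({s} : Multiset ℕ).sum := by
      rw [Multiset.sum_singleton]; omega
    exact (by decide : 4 ∣ Nat.factorial 4).trans (Nat.factorial_dvd_factorial h2)
  have hk1 : k = 0 ∨ k = 1 := by
    by_contra hcon
    have : 2 ≤ k := by omega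
    nlinarith
  -- the order of the centralizer
  have hN : ∃ m, Nat.card (centralizer ({(x : Perm α)} : Set (Perm α))) = s * m ∧ (m = 1 ∨ m = 2 ∨ m = 6) := by
    rcases hk1 with rfl | rfl
    · refine ⟨(Fintype.card α - s).factorial, ?_, ?_⟩
      · rw [Perm.nat_card_centralizer, hk]
        simp [mul_comm]
      · have : Fintype.card α - s ≤ 3 := by omega
        interval_cases h : (Fintype.card α - s) <;> simp [Nat.factorial]
    · have h3 : s = 3 := by omega
      have h6 : Fintype.card α = 6 := by omega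
      refine ⟨6, ?_, Or.inr (Or.inr rfl)⟩
      rw [Perm.nat_card_centralizer, hk, h3, h6]
      decide
  obtain ⟨m, hm, hm2⟩ := hN
  obtain ⟨d, hd, he⟩ := centralizer_inf x.2
  have hodd := odd_card hx hs2 hn
  set C : Subgroup (Perm α) := centralizer ({(x : Perm α)} : Set (Perm α)) ⊓ alternatingGroup α with hC
  have hD : Nat.card C ∣ s * 3 := by
    have h1 : Nat.card C ∣ s * m := by
      rw [← hm, he]
      exact dvd_mul_right _ _
    have h2 : s * m ∣ (s * 3) * 2 := by
      rcases hm2 with rfl | rfl | rfl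
      · exact ⟨6, by ring⟩
      · exact ⟨3, by ring⟩
      · exact ⟨1, by ring⟩
    have h3 : Nat.Coprime (Nat.card C) 2 := by
      rw [Nat.coprime_comm, Nat.Prime.coprime_iff_not_dvd Nat.prime_two]
      exact hodd
    exact h3.dvd_of_dvd_mul_right (h1.trans h2)
  have hxC : (x : Perm α) ∈ C := ⟨mem_centralizer_singleton_iff.2 rfl, x.2⟩
  have haC : (a : Perm α) ∈ C := ⟨mem_centralizer_singleton_iff.2 (congrArg Subtype.val ha.eq), a.2⟩
  have hbC : (b : Perm α) ∈ C := ⟨mem_centralizer_singleton_iff.2 (congrArg Subtype.val hb.eq), b.2⟩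
  have key := comm_of_central (G := C) (z := ⟨x, hxC⟩) (fun g => by
      apply Subtype.ext
      exact mem_centralizer_singleton_iff.1 g.2.1) Nat.prime_three (by
      rw [Subgroup.orderOf_mk, hso]
      exact hD) ⟨a, haC⟩ ⟨b, hbC⟩
  apply Subtype.ext
  exact congrArg (fun z : C => (z : Perm α)) key

end

theorem good2_of_isAlternating {S : Type*} [Group S] (h : Cfsg.IsAlternating S) : Good2 S := by
  obtain ⟨n, hn, ⟨e⟩⟩ := h
  exact (good2_of_ac1 (ac1_alt (Fin n))).congr e.symm

end Cfsg.Agent.H564.AltPG
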