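import Cfsg.Agent.H564.SporAll
import Cfsg.Agent.H564.Alt
import Cfsg.Agent.H564.PSL
import Cfsg.Agent.H564.SzRee
import Cfsg.Agent.H182.CentAll
import Cfsg.Agent.H182.CentU
import Cfsg.Agent.H378.RegFin
import Cfsg.Agent.H378.RegE7
import Cfsg.Agent.H378.TwRowsF

/-!
# `NoConf` for the known simple groups, up to `2E6`, `3D4`, `2F4` (helper564, for S4313)
-/

set_option autoImplicit false

namespace Cfsg.Agent.H564.NoConfKnown

open Cfsg Cfsg.Agent.H564.Reduction Cfsg.Agent.H564.NearTwo

/-- the rows which are hypotheses -/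
def Twisted (S : Type*) [Group S] : Prop := Lie.Iso2E6 S ∨ Lie.Iso3D4 S ∨ Lie.Iso2F4 S

theorem noConf_known {S : Type*} [Group S] [Finite S] (hna : ¬ IsMulCommutative S) (h : IsKnownSimple' S)
    (ht : Twisted S → NoConf S) : NoConf S := by
  rcases h with h | h | h | h | h | h | h | h | h | h
  · exfalso
    apply hna
    have h1 : Fact (Nat.card S).Prime := ⟨h⟩
    have h2 : IsCyclic S := isCyclic_of_prime_card (p := Nat.card S) rfl
    exact IsCyclic.isMulCommutative
  · exact noConf_of_good2 (AltPG.good2_of_isAlternating h)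
  · exact noConf_of_good2 (PSLn.good2_of_isPSL h)
  · exact noConf_of_good2 (H182.Cent.good2 (Or.inl h))
  · exact noConf_of_good2 (H182.Cent.good2_psu h)
  · exact noConf_of_good2 (H182.Cent.good2 (Or.inr (Or.inl h)))
  · exact noConf_of_good2 (H182.Cent.good2 (Or.inr (Or.inr (Or.inl h))))
  · exact noConf_of_good2 (H182.Cent.good2 (Or.inr (Or.inr (Or.inr h))))
  · rcases h with h | h | h | h | h | h | h | h | h | h | h
    · obtain ⟨F, _, _, -, ⟨e⟩⟩ := h
      exact noConf_of_good2 ((H378.RegFin.good2_G2 F).congr e.symm)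
    · obtain ⟨F, _, _, ⟨e⟩⟩ := h
      exact noConf_of_good2 ((H378.RegFin.good2_F4 F).congr e.symm)
    · obtain ⟨F, _, _, ⟨e⟩⟩ := h
      exact noConf_of_good2 ((H378.RegFin.good2_E6 F).congr e.symm)
    · obtain ⟨F, _, _, ⟨e⟩⟩ := h
      exact noConf_of_good2 ((H378.RegE7.good2_E7 F).congr e.symm)
    · obtain ⟨F, _, _, ⟨e⟩⟩ := h
      exact noConf_of_good2 ((H378.RegFin.good2_E8 F).congr e.symm)
    · exact ht (Or.inl h)
    · exact ht (Or.inr (Or.inl h))
    · exact noConf_of_good2 (SzRee.good2_suzuki h)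
    · exact noConf_of_good2 (SzRee.good2_ree h)
    · exact ht (Or.inr (Or.inr h))
    · exact SporRow.noConf_tits h
  · exact SporRow.noConf_sporadic h

/-- only the family `2F4` as a hypothesis -/
theorem noConf_known' {S : Type*} [Group S] [Finite S] (hna : ¬ IsMulCommutative S) (h : IsKnownSimple' S)
    (ht : Lie.Iso2F4 S → NoConf S) : NoConf S := by
  refine noConf_known hna h fun h => ?_
  rcases h with h | h | h
  · obtain ⟨K, _, _, q, hq, hK, ⟨e⟩⟩ := h
    exact noConf_of_good2 ((H378.TwRows.good2_2E6 hq hK).congr e.symm)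
  · obtain ⟨K, _, _, q, hq, hK, ⟨e⟩⟩ := h
    exact noConf_of_good2 ((H378.TwRows.good2_3D4 hq hK).congr e.symm)
  · exact ht h

/-- **All known nonabelian simple groups** -/
theorem noConf {S : Type*} [Group S] [Finite S] (hna : ¬ IsMulCommutative S) (h : IsKnownSimple' S) : NoConf S :=
  noConf_known' hna h fun h => noConf_of_good2 (H378.TwRowsF.good2_iso2F4 h)

end Cfsg.Agent.H564.NoConfKnown
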