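import Cfsg.Agent.H564.MatUnits
import Cfsg.Agent.H564.Near

/-!
# The prime graph of `PSL_n(q)`: elements of prime order, general part (helper564, for S4313)
-/

set_option autoImplicit false
set_option linter.unusedSectionVars false

namespace Cfsg.Agent.H564.PSLn

open Matrix Cfsg.Agent.H94.PG Cfsg.Agent.H564.NearTwo

variable {F : Type*} [Field F] {n : ℕ}

/-- the projection `SL_n → PSL_n` -/
abbrev mk (F : Type*) [Field F] (n : ℕ) :
    Matrix.SpecialLinearGroup (Fin n) F →* ProjectiveSpecialLinearGroup (Fin n) F :=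
  QuotientGroup.mk' (Subgroup.center (Matrix.SpecialLinearGroup (Fin n) F))

theorem mk_surjective : Function.Surjective (mk F n) := QuotientGroup.mk'_surjective _

theorem exists_scalar {g : Matrix.SpecialLinearGroup (Fin n) F} (h : mk F n g = 1) :
    ∃ c : F, (g : Matrix (Fin n) (Fin n) F) = scalar (Fin n) c := by
  rw [QuotientGroup.mk'_apply, QuotientGroup.eq_one_iff, Matrix.SpecialLinearGroup.mem_center_iff] at h
  obtain ⟨c, -, hc⟩ := h
  exact ⟨c, hc.symm⟩

theorem mk_eq_one_of_scalar {g : Matrix.SpecialLinearGroup (Fin n) F} {c : F}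
    (h : (g : Matrix (Fin n) (Fin n) F) = scalar (Fin n) c) : mk F n g = 1 := by
  rw [QuotientGroup.mk'_apply, QuotientGroup.eq_one_iff, Subgroup.mem_center_iff]
  intro x
  apply Subtype.ext
  change (x : Matrix (Fin n) (Fin n) F) * g = g * x
  rw [h]
  exact (scalar_commute c (Commute.all c) (x : Matrix (Fin n) (Fin n) F)).eq.symm

theorem scalar_ne_zero (hn : 0 < n) {g : Matrix.SpecialLinearGroup (Fin n) F} {c : F}
    (h : (g : Matrix (Fin n) (Fin n) F) = scalar (Fin n) c) : c ≠ 0 := by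
  rintro rfl
  have h1 := g.2
  have : Nonempty (Fin n) := ⟨⟨0, hn⟩⟩
  rw [h, map_zero, Matrix.det_zero] at h1
  exact zero_ne_one h1

/-- commuting elements of `PSL_n` -/
theorem exists_of_commute {g y : Matrix.SpecialLinearGroup (Fin n) F} (h : Commute (mk F n g) (mk F n y)) :
    ∃ c : F, c ^ n = 1 ∧ (g : Matrix (Fin n) (Fin n) F) * y = scalar (Fin n) c * (y * g) := by
  have h1 : mk F n ((y * g)⁻¹ * (g * y)) = 1 := by
    rw [map_mul, map_inv, map_mul, map_mul, h.eq]
    group
  rw [QuotientGroup.mk'_apply, QuotientGroup.eq_one_iff, Matrix.SpecialLinearGroup.mem_center_iff] at h1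
  obtain ⟨c, hcn, hc⟩ := h1
  rw [Fintype.card_fin] at hcn
  refine ⟨c, hcn, ?_⟩
  have h2 : g * y = (y * g) * ((y * g)⁻¹ * (g * y)) := by group
  have h3 : (g : Matrix (Fin n) (Fin n) F) * y =
      ((y * g : Matrix.SpecialLinearGroup (Fin n) F) : Matrix (Fin n) (Fin n) F) *
        (((y * g)⁻¹ * (g * y) : Matrix.SpecialLinearGroup (Fin n) F) : Matrix (Fin n) (Fin n) F) := by
    have := congrArg (fun z : Matrix.SpecialLinearGroup (Fin n) F => (z : Matrix (Fin n) (Fin n) F)) h2
    simpa only [Matrix.SpecialLinearGroup.coe_mul] using this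
  rw [h3, ← hc]
  exact (scalar_commute c (Commute.all c) _).eq.symm

theorem commute_of_mat {g y : Matrix.SpecialLinearGroup (Fin n) F}
    (h : Commute (g : Matrix (Fin n) (Fin n) F) (y : Matrix (Fin n) (Fin n) F)) : Commute g y :=
  Subtype.ext h.eq

theorem one_add_pow {N : Matrix (Fin n) (Fin n) F} (hN : N * N = 0) (k : ℕ) : (1 + N) ^ k = 1 + (k : F) • N := by
  induction k with
  | zero => simp
  | succ k ih =>
    rw [pow_succ, ih]
    push_cast
    rw [add_mul, mul_add, mul_add, smul_mul_assoc, smul_mul_assoc, hN, smul_zero, one_mul, one_mul, mul_one, add_smul,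
      one_smul]
    abel

theorem det_one_add [Finite F] {N : Matrix (Fin n) (Fin n) F} (hN : N * N = 0) : (1 + N).det = 1 := by
  have := Fintype.ofFinite F
  rw [← FiniteField.pow_card (1 + N).det, ← Matrix.det_pow, one_add_pow hN, FiniteField.cast_card_eq_zero, zero_smul,
    add_zero, Matrix.det_one]

theorem pow_eq_scalar {y : Matrix.SpecialLinearGroup (Fin n) F} {r : ℕ} (h : mk F n y ^ r = 1) :
    ∃ c : F, (y : Matrix (Fin n) (Fin n) F) ^ r = scalar (Fin n) c := by
  rw [← map_pow] at h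
  obtain ⟨c, hc⟩ := exists_scalar h
  exact ⟨c, by rw [← hc, Matrix.SpecialLinearGroup.coe_pow]⟩

/-- the element of order 4 (or 2) given by matrix units -/
noncomputable def wEl [Finite F] (N N' : Matrix (Fin n) (Fin n) F) (hN : N * N = 0) (hN' : N' * N' = 0) :
    Matrix.SpecialLinearGroup (Fin n) F :=
  ⟨(1 + N) * (1 + -N') * (1 + N), by
    rw [Matrix.det_mul, Matrix.det_mul, det_one_add hN, det_one_add (by rw [neg_mul_neg, hN']), one_mul, one_mul]⟩

theorem wEl_coe [Finite F] {N N' : Matrix (Fin n) (Fin n) F} (hN : N * N = 0) (hN' : N' * N' = 0)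
    (h1 : N * N' * N = N) :
    (wEl N N' hN hN' : Matrix (Fin n) (Fin n) F) = 1 + N - N' - N * N' - N' * N := by
  change (1 + N) * (1 + -N') * (1 + N) = _
  have h2 : (1 + N) * (1 + -N') * (1 + N) = 1 + N - N' - N * N' - N' * N + (N - N * N' * N) + N * N := by
    noncomm_ring
  rw [h2, h1, hN, sub_self, add_zero, add_zero]

theorem wEl_sq [Finite F] {N N' : Matrix (Fin n) (Fin n) F} (hN : N * N = 0) (hN' : N' * N' = 0)
    (h1 : N * N' * N = N) (h2 : N' * N * N' = N') :
    (wEl N N' hN hN' : Matrix (Fin n) (Fin n) F) ^ 2 = 1 - 2 • (N * N' + N' * N) := by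
  have h3 : N * N' * (N * N') = N * N' := by rw [← mul_assoc, h1]
  have h4 : N' * N * (N' * N) = N' * N := by rw [← mul_assoc, h2]
  have h5 : N * (N' * N) = N := by rw [← mul_assoc, h1]
  have h6 : N' * (N * N') = N' := by rw [← mul_assoc, h2]
  have h7 : N * (N * N') = 0 := by rw [← mul_assoc, hN, zero_mul]
  have h8 : N' * (N' * N) = 0 := by rw [← mul_assoc, hN', zero_mul]
  have h9 : N * N' * N' = 0 := by rw [mul_assoc, hN', mul_zero]
  have h10 : N' * N * N = 0 := by rw [mul_assoc, hN, mul_zero]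
  have h11 : N * N' * (N' * N) = 0 := by rw [mul_assoc, h8, mul_zero]
  have h12 : N' * N * (N * N') = 0 := by rw [mul_assoc, h7, mul_zero]
  rw [wEl_coe hN hN' h1, pow_two]
  simp only [mul_add, add_mul, mul_sub, sub_mul, one_mul, mul_one, hN, hN', h1, h2, h3, h4, h5, h6, h7, h8, h9, h10,
    h11, h12, two_smul]
  abel

theorem wEl_pow_four [Finite F] {N N' : Matrix (Fin n) (Fin n) F} (hN : N * N = 0) (hN' : N' * N' = 0)
    (h1 : N * N' * N = N) (h2 : N' * N * N' = N') :
    (wEl N N' hN hN') ^ 4 = 1 := by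
  apply Subtype.ext
  rw [Matrix.SpecialLinearGroup.coe_pow, Matrix.SpecialLinearGroup.coe_one]
  have h3 : N * N' * (N * N') = N * N' := by rw [← mul_assoc, h1]
  have h4 : N' * N * (N' * N) = N' * N := by rw [← mul_assoc, h2]
  have h7 : N * (N * N') = 0 := by rw [← mul_assoc, hN, zero_mul]
  have h8 : N' * (N' * N) = 0 := by rw [← mul_assoc, hN', zero_mul]
  have h11 : N * N' * (N' * N) = 0 := by rw [mul_assoc, h8, mul_zero]
  have h12 : N' * N * (N * N') = 0 := by rw [mul_assoc, h7, mul_zero]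
  have hE : (N * N' + N' * N) * (N * N' + N' * N) = N * N' + N' * N := by
    rw [mul_add, add_mul, add_mul, h3, h4, h11, h12, add_zero, zero_add]
  rw [show (4 : ℕ) = 2 * 2 by norm_num, pow_mul, wEl_sq hN hN' h1 h2, pow_two]
  rw [sub_mul, mul_sub, mul_sub, smul_mul_smul_comm, hE]
  simp only [one_mul, mul_one]
  rw [show (2 * 2 : ℕ) = 2 + 2 by norm_num, add_smul]
  abel

theorem wEl_not_scalar [Finite F] {N N' : Matrix (Fin n) (Fin n) F} (hN : N * N = 0) (hN' : N' * N' = 0)
    (h1 : N * N' * N = N) (h0 : N ≠ 0) : mk F n (wEl N N' hN hN') ≠ 1 := by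
  intro h
  obtain ⟨c, hc⟩ := exists_scalar h
  apply h0
  have h2 : N * (wEl N N' hN hN' : Matrix (Fin n) (Fin n) F) * N = -N := by
    rw [wEl_coe hN hN' h1]
    have h3 : N * (1 + N - N' - N * N' - N' * N) * N =
        N * N + N * N * N - N * N' * N - N * N * N' * N - N * N' * (N * N) := by noncomm_ring
    rw [h3, h1, hN]
    simp
  rw [hc, ← (scalar_commute c (Commute.all c) N).eq, mul_assoc, hN, mul_zero] at h2
  rw [← neg_eq_zero, ← h2]

theorem two_dvd_orderOf {G : Type*} [Group G] {g : G} (h4 : g ^ 4 = 1) (h1 : g ≠ 1) : 2 ∣ orderOf g := by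
  have h2 : orderOf g ∣ 2 ^ 2 := by
    have := orderOf_dvd_of_pow_eq_one h4
    norm_num at this ⊢
    exact this
  obtain ⟨k, -, hk⟩ := (Nat.dvd_prime_pow Nat.prime_two).1 h2
  rw [hk]
  refine dvd_pow_self 2 ?_
  rintro rfl
  rw [pow_zero, orderOf_eq_one_iff] at hk
  exact h1 hk

/-- **matrix units commuting with `y` give an element of order 2 or 4 in `PSL_n`** -/
theorem adj_two_of_units [Finite F] {y : Matrix.SpecialLinearGroup (Fin n) F} {N N' : Matrix (Fin n) (Fin n) F}
    (hy : Commute N (y : Matrix (Fin n) (Fin n) F)) (hy' : Commute N' (y : Matrix (Fin n) (Fin n) F))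
    (hN : N * N = 0) (hN' : N' * N' = 0) (h1 : N * N' * N = N) (h2 : N' * N * N' = N') (h0 : N ≠ 0)
    {r : ℕ} (hr : r.Prime) (hr2 : r ≠ 2) (hd : r ∣ orderOf (mk F n y)) :
    Adj (ProjectiveSpecialLinearGroup (Fin n) F) r 2 := by
  have hfin : Finite (ProjectiveSpecialLinearGroup (Fin n) F) := inferInstance
  have hc : Commute (y : Matrix (Fin n) (Fin n) F) (wEl N N' hN hN' : Matrix (Fin n) (Fin n) F) := by
    rw [wEl_coe hN hN' h1]
    exact ((((Commute.one_right _).add_right hy.symm).sub_right hy'.symm).sub_right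
      (hy.symm.mul_right hy'.symm)).sub_right (hy'.symm.mul_right hy.symm)
  refine adj_of_dvd hr Nat.prime_two hr2 ((commute_of_mat hc).map (mk F n)) hd ?_ (orderOf_pos _).ne'
    (orderOf_pos _).ne'
  refine two_dvd_orderOf ?_ (wEl_not_scalar hN hN' h1 h0)
  rw [← map_pow, wEl_pow_four hN hN' h1 h2, map_one]

/-- **noncommuting matrices in the centralizer** -/
theorem adj_two_of_noncomm [Finite F] (hn : 0 < n) {y : Matrix.SpecialLinearGroup (Fin n) F} {r : ℕ} (hr : r.Prime)
    (hr2 : r ≠ 2) (hrF : (r : F) ≠ 0) (ho : orderOf (mk F n y) = r) {a b : Matrix (Fin n) (Fin n) F}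
    (ha : Commute a (y : Matrix (Fin n) (Fin n) F)) (hb : Commute b (y : Matrix (Fin n) (Fin n) F))
    (hab : a * b ≠ b * a) : Adj (ProjectiveSpecialLinearGroup (Fin n) F) r 2 := by
  obtain ⟨c, hc⟩ := pow_eq_scalar (y := y) (r := r) (by rw [← ho, pow_orderOf_eq_one])
  have hc0 : c ≠ 0 := scalar_ne_zero hn (g := y ^ r) (by rw [Matrix.SpecialLinearGroup.coe_pow, hc])
  obtain ⟨N, N', h1, h2, h3, h4, h5, h6, h7⟩ := MatUnits.exists_units_matrix (y : Matrix (Fin n) (Fin n) F) hrF hc0 hc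
    a b ha hb hab
  exact adj_two_of_units h1 h2 h3 h4 h5 h6 h7 hr hr2 (by rw [ho])

/-- the scalar of a commutator -/
theorem scalar_pow_eq_one (hn : 0 < n) {g y : Matrix.SpecialLinearGroup (Fin n) F} {r : ℕ} (hy : mk F n y ^ r = 1) {c : F}
    (h : (g : Matrix (Fin n) (Fin n) F) * y = scalar (Fin n) c * (y * g)) : c ^ r = 1 := by
  obtain ⟨d, hd⟩ := pow_eq_scalar hy
  have hd0 : d ≠ 0 := scalar_ne_zero hn (g := y ^ r) (by rw [Matrix.SpecialLinearGroup.coe_pow, hd])
  have h1 : ∀ k : ℕ, (g : Matrix (Fin n) (Fin n) F) * (y : Matrix (Fin n) (Fin n) F) ^ k =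
      scalar (Fin n) (c ^ k) * ((y : Matrix (Fin n) (Fin n) F) ^ k * g) := by
    intro k
    induction k with
    | zero => simp
    | succ k ih =>
      rw [pow_succ, ← mul_assoc, ih, mul_assoc, mul_assoc, h, pow_succ, map_mul]
      have h2 : (y : Matrix (Fin n) (Fin n) F) ^ k * (scalar (Fin n) c * (y * g)) =
          scalar (Fin n) c * ((y : Matrix (Fin n) (Fin n) F) ^ k * (y * g)) := by
        rw [← mul_assoc, ← (scalar_commute c (Commute.all c) ((y : Matrix (Fin n) (Fin n) F) ^ k)).eq, mul_assoc]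
      rw [h2]
      simp only [mul_assoc]
  have h2 := h1 r
  rw [hd] at h2
  -- entries
  have h3 : scalar (Fin n) d = scalar (Fin n) (c ^ r * d) := by
    have h4 : scalar (Fin n) d * (g : Matrix (Fin n) (Fin n) F) = scalar (Fin n) (c ^ r * d) * g := by
      rw [(scalar_commute d (Commute.all d) (g : Matrix (Fin n) (Fin n) F)).eq, h2, map_mul, mul_assoc]
    have h5 : (g : Matrix (Fin n) (Fin n) F) * (g⁻¹ : Matrix.SpecialLinearGroup (Fin n) F) = 1 := by
      rw [← Matrix.SpecialLinearGroup.coe_mul, mul_inv_cancel, Matrix.SpecialLinearGroup.coe_one]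
    have h6 := congrArg (fun z => z * ((g⁻¹ : Matrix.SpecialLinearGroup (Fin n) F) : Matrix (Fin n) (Fin n) F)) h4
    simpa only [mul_assoc, h5, mul_one] using h6
  have h4 := congrFun (congrFun h3 ⟨0, hn⟩) ⟨0, hn⟩
  rw [scalar_apply, scalar_apply, diagonal_apply_eq, diagonal_apply_eq] at h4
  have h5 : (c ^ r - 1) * d = 0 := by linear_combination -h4
  rcases mul_eq_zero.1 h5 with h6 | h6
  · exact sub_eq_zero.1 h6
  · exact absurd h6 hd0

/-- commuting lifts -/
theorem commute_mat (hn : 0 < n) {g y : Matrix.SpecialLinearGroup (Fin n) F} {r : ℕ} (hr : r.Prime) (hy : mk F n y ^ r = 1)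
    (hc : ¬ r ∣ n ∨ ∀ c : F, c ^ r = 1 → c = 1) (h : Commute (mk F n g) (mk F n y)) :
    Commute (g : Matrix (Fin n) (Fin n) F) (y : Matrix (Fin n) (Fin n) F) := by
  obtain ⟨c, hcn, hgy⟩ := exists_of_commute h
  have hcr := scalar_pow_eq_one hn hy hgy
  have hc1 : c = 1 := by
    rcases hc with hc | hc
    · have h1 : r.gcd n = 1 := (Nat.Prime.coprime_iff_not_dvd hr).2 hc
      have h2 : orderOf c ∣ 1 := by
        rw [← h1]
        exact Nat.dvd_gcd (orderOf_dvd_of_pow_eq_one hcr) (orderOf_dvd_of_pow_eq_one hcn)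
      exact orderOf_eq_one_iff.1 (Nat.dvd_one.1 h2)
    · exact hc c hcr
  rw [hc1, map_one, one_mul] at hgy
  exact hgy

/-- **centralizers in `PSL_n`, the general case** -/
theorem comm_of_not_adj [Finite F] (hn : 0 < n) (x : ProjectiveSpecialLinearGroup (Fin n) F) (hx : (orderOf x).Prime)
    (h2 : orderOf x ≠ 2) (hrF : ((orderOf x : ℕ) : F) ≠ 0)
    (hc : ¬ orderOf x ∣ n ∨ ∀ c : F, c ^ orderOf x = 1 → c = 1)
    (hA : ¬ Adj (ProjectiveSpecialLinearGroup (Fin n) F) (orderOf x) 2)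
    {a b : ProjectiveSpecialLinearGroup (Fin n) F} (ha : Commute a x) (hb : Commute b x) : Commute a b := by
  obtain ⟨y, hy⟩ := mk_surjective x
  obtain ⟨g, hg⟩ := mk_surjective a
  obtain ⟨h, hh⟩ := mk_surjective b
  rw [← hy] at hx h2 hrF hc hA ha hb
  rw [← hg] at ha
  rw [← hh] at hb
  rw [← hg, ← hh]
  have h1 := commute_mat hn hx (pow_orderOf_eq_one (mk F n y)) hc ha
  have h3 := commute_mat hn hx (pow_orderOf_eq_one (mk F n y)) hc hb
  refine (commute_of_mat ?_).map (mk F n)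
  by_contra hab
  exact hA (adj_two_of_noncomm hn hx h2 hrF rfl h1 h3 hab)

end Cfsg.Agent.H564.PSLn
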