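import Cfsg.Agent.H369.PglSit
import Cfsg.Agent.H564.PglG
import Cfsg.Agent.H564.Near

/-!
# Tools for the rows of the recognition of `PGL_2(q)` by spectrum (helper564, for S3447)

* `three_card'` : the order criterion, from `3 ∣ mm`;
* `three_dvd_mm_of` : `3 ∣ mm` from elements of orders `4 s` and `3 s`;
* `not_cyclic_of_pair` : two commuting independent elements of order 3;
* `not_near` : `p` is not near 2;
* `card_aut` : `|Aut S| = |Out S| |S|`.
-/

set_option autoImplicit false

namespace Cfsg.Agent.H564.PglTool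

open Subgroup Cfsg Cfsg.Agent.H369.Pgl Cfsg.Agent.H564.NearTwo Cfsg.Agent.H94.PG

universe u

/-- elements of a cyclic group -/
theorem mem_zpowers_of_cyclic {C : Type*} [Group C] [Finite C] [IsCyclic C] {a b : C} (h : orderOf a ∣ orderOf b) :
    a ∈ zpowers b := by
  classical
  have := Fintype.ofFinite C
  have h1 := IsCyclic.card_pow_eq_one_le (α := C) (n := orderOf b) (orderOf_pos b)
  have h2 : (Finset.univ.filter fun z : C => z ∈ zpowers b) ⊆ Finset.univ.filter fun z : C => z ^ orderOf b = 1 := by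
    intro z hz
    rw [Finset.mem_filter] at hz ⊢
    refine ⟨Finset.mem_univ _, ?_⟩
    obtain ⟨k, rfl⟩ := mem_zpowers_iff.1 hz.2
    rw [← zpow_natCast, ← zpow_mul, mul_comm, zpow_mul, zpow_natCast, pow_orderOf_eq_one, one_zpow]
  have h3 : (Finset.univ.filter fun z : C => z ∈ zpowers b).card = orderOf b := by
    rw [← Nat.card_zpowers, Nat.card_eq_fintype_card, Fintype.card_subtype]
  have h4 := Finset.eq_of_subset_of_card_le h2 (by rw [h3]; exact h1)
  have h5 : a ∈ Finset.univ.filter fun z : C => z ^ orderOf b = 1 := by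
    rw [Finset.mem_filter]
    exact ⟨Finset.mem_univ _, orderOf_dvd_iff_pow_eq_one.1 h⟩
  rw [← h4, Finset.mem_filter] at h5
  exact h5.2

/-- **Row criterion, order version.** -/
theorem three_card' {S : Type*} [Group S] [Finite S] [IsSimpleGroup S] (hna : ¬ IsMulCommutative S) {p m : ℕ}
    {X : Subgroup (MulAut S)} (H : Sit S p m X) (h3m : 3 ∣ mm (p ^ m)) (h3 : ∃ P : Sylow 3 S, ¬ IsCyclic P) {A B : ℕ}
    (hAB : Nat.card (MulAut S) ∣ A * B) (hB : 0 < B)
    (hA : ∀ s : ℕ, s.Prime → s ∣ A → s = 2 ∨ s = 3 ∨ s = p ∨ ∃ g : S, s * 3 ∣ orderOf g ∨ s * 4 ∣ orderOf g) :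
    p ^ m - 1 ≤ 2 * B := by
  have h4m : 4 ∣ mm (p ^ m) := four_dvd_mm H.odd
  obtain ⟨P, hP⟩ := h3
  rcases H.two_cases with ⟨x, hx, hxo⟩ | h
  · have hcop : (nn (p ^ m)).Coprime A := by
      apply Nat.coprime_of_dvd
      intro s hsp hsn hsA
      rcases hA s hsp hsA with h | h | h | ⟨g, h | h⟩
      · subst h
        have := nn_odd H.odd
        omega
      · subst h
        have := Nat.eq_one_of_dvd_coprimes (coprime_nn_mm H.odd) hsn h3m
        omega
      · subst h
        exact H.not_dvd_nn hsn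
      · exact H.not_mul hsp hsn (by norm_num) (by norm_num) h3m (H.inn g) (by rwa [Sit.orderOf_conj hna g])
      · exact H.not_mul hsp hsn (by norm_num) (by norm_num) h4m (H.inn g) (by rwa [Sit.orderOf_conj hna g])
    have hdvd : nn (p ^ m) ∣ A * B := by
      rw [← hxo]
      exact (orderOf_dvd_natCard x).trans hAB
    have h1 : nn (p ^ m) ∣ B := hcop.dvd_of_dvd_mul_left hdvd
    have h2 := Nat.le_of_dvd hB h1
    have h3 := le_two_nn H.odd
    omega
  · exact absurd (h 3 Nat.prime_three (by norm_num) h3m P) hP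

/-- `3 ∣ mm` from elements of orders `4 s` and `3 s` -/
theorem three_dvd_mm_of {S : Type*} [Group S] [Finite S] [IsSimpleGroup S] (hna : ¬ IsMulCommutative S) {p m : ℕ}
    {X : Subgroup (MulAut S)} (H : Sit S p m X) {s : ℕ} (hs : s.Prime) (hs2 : s ≠ 2) (h4 : ∃ g : S, s * 4 ∣ orderOf g)
    (h3 : ∃ g : S, s * 3 ∣ orderOf g) : 3 ∣ mm (p ^ m) := by
  have hodd := nn_odd H.odd
  have hcop := coprime_nn_mm H.odd
  obtain ⟨g, hg⟩ := h4
  obtain ⟨k, hk⟩ := h3
  have hsm : s ∣ mm (p ^ m) := by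
    have h := H.orderX (H.inn g)
    rw [Sit.orderOf_conj hna g] at h
    rcases h with h | h | h
    · exfalso
      have h2 : 2 ∣ p := ((by norm_num : 2 ∣ 4).trans (Dvd.intro_left _ rfl)).trans (hg.trans h)
      exact H.hp2 ((Nat.prime_dvd_prime_iff_eq Nat.prime_two H.hp).1 h2).symm
    · exact (Dvd.intro _ rfl).trans (hg.trans h)
    · exfalso
      have h2 : 4 ∣ 2 * nn (p ^ m) := (Dvd.intro_left _ rfl).trans (hg.trans h)
      omega
  have h := H.orderX (H.inn k)
  rw [Sit.orderOf_conj hna k] at h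
  rcases h with h | h | h
  · exfalso
    exact H.not_adj hna (r := 3) (by norm_num) (g := k) (by
      have h1 := hk.trans h
      have h2 : s = p := (Nat.prime_dvd_prime_iff_eq hs H.hp).1 ((Dvd.intro _ rfl).trans h1)
      rwa [h2] at hk)
  · exact (Dvd.intro_left _ rfl).trans (hk.trans h)
  · exfalso
    have h1 : s ∣ 2 * nn (p ^ m) := (Dvd.intro _ rfl).trans (hk.trans h)
    rcases (Nat.Prime.dvd_mul hs).1 h1 with h2 | h2
    · exact hs2 ((Nat.prime_dvd_prime_iff_eq hs Nat.prime_two).1 h2)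
    · exact hs.one_lt.ne' (Nat.eq_one_of_dvd_coprimes hcop h2 hsm)

/-- two commuting independent elements of prime order -/
theorem not_cyclic_of_pair {S : Type*} [Group S] [Finite S] {s : ℕ} (hs : s.Prime) {a b : S} (hc : Commute a b)
    (ha : orderOf a = s) (hb : orderOf b = s) (hab : a ∉ zpowers b) : ∃ P : Sylow s S, ¬ IsCyclic P := by
  have hf : Fact s.Prime := ⟨hs⟩
  have hcomm : ∀ (x : zpowers a) (y : zpowers b), Commute ((zpowers a).subtype x) ((zpowers b).subtype y) := by
    rintro ⟨_, i, rfl⟩ ⟨_, j, rfl⟩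
    exact (hc.zpow_zpow i j)
  let f : zpowers a × zpowers b →* S := MonoidHom.noncommCoprod (zpowers a).subtype (zpowers b).subtype hcomm
  have hP : IsPGroup s f.range := by
    have h1 : IsPGroup s (zpowers a × zpowers b) := by
      apply IsPGroup.of_card (n := 2)
      rw [Nat.card_prod, Nat.card_zpowers, Nat.card_zpowers, ha, hb, pow_two]
    exact h1.of_surjective f.rangeRestrict f.rangeRestrict_surjective
  obtain ⟨P, hRP⟩ := hP.exists_le_sylow
  refine ⟨P, fun hcy => hab ?_⟩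
  have haP : a ∈ P := hRP ⟨(⟨a, mem_zpowers a⟩, 1), by simp [f]⟩
  have hbP : b ∈ P := hRP ⟨(1, ⟨b, mem_zpowers b⟩), by simp [f]⟩
  have h1 : (⟨a, haP⟩ : P) ∈ zpowers (⟨b, hbP⟩ : P) := by
    have h2 : orderOf (⟨a, haP⟩ : P) ∣ orderOf (⟨b, hbP⟩ : P) := by
      have e1 : orderOf (⟨a, haP⟩ : P) = s := (Subgroup.orderOf_mk a haP).trans ha
      have e2 : orderOf (⟨b, hbP⟩ : P) = s := (Subgroup.orderOf_mk b hbP).trans hb
      rw [e1, e2]
    exact mem_zpowers_of_cyclic h2
  obtain ⟨i, hi⟩ := h1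
  exact ⟨i, congrArg Subtype.val hi⟩

/-- `p` is not near 2 -/
theorem not_near {S : Type*} [Group S] [Finite S] [IsSimpleGroup S] (hna : ¬ IsMulCommutative S) {p m : ℕ}
    {X : Subgroup (MulAut S)} (H : Sit S p m X) : ¬ Near S p := by
  have key : ∀ r : ℕ, ¬ Adj S p r := by
    rintro r ⟨-, hr, hne, x, y, hx, hy, hxy⟩
    have hcop : (orderOf x).Coprime (orderOf y) := by
      rw [hx, hy]
      exact (Nat.coprime_primes H.hp hr).2 hne
    refine H.not_adj hna hr.two_le (g := x * y) ?_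
    rw [hxy.orderOf_mul_eq_mul_orderOf_of_coprime hcop, hx, hy]
  rintro (h | h | ⟨r, h, -⟩)
  · exact H.hp2 h
  · exact key _ h
  · exact key _ h

/-- `|Aut S| = |Out S| |S|` -/
theorem card_aut {S : Type*} [Group S] [Finite S] [IsSimpleGroup S] (hna : ¬ IsMulCommutative S) :
    Nat.card (MulAut S) = Nat.card (Cfsg.Out S) * Nat.card S := by
  rw [Subgroup.card_eq_card_quotient_mul_card_subgroup (Cfsg.Inn S)]
  congr 1
  exact (Nat.card_congr (MonoidHom.ofInjective (Sit.conj_inj hna)).toEquiv).symm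

/-- a prime divisor of an order which is isolated -/
theorem eq_of_cyclic {S : Type*} [Group S] [Finite S] [IsSimpleGroup S] (hna : ¬ IsMulCommutative S) {p m : ℕ}
    {X : Subgroup (MulAut S)} (H : Sit S p m X) {T : Subgroup S} (hT : IsCyclic T) (hp : p ∣ Nat.card T) :
    Nat.card T = p := by
  obtain ⟨c, hc⟩ := hT.exists_generator
  have h1 : orderOf c = Nat.card T := orderOf_eq_card_of_forall_mem_zpowers hc
  have h2 : orderOf (c : S) = Nat.card T := by rw [Subgroup.orderOf_coe, h1]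
  rw [← h2]
  exact H.iso hna (by rw [h2]; exact hp)

end Cfsg.Agent.H564.PglTool
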