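import Cfsg.Agent.H564.SporM

/-!
# `NoConf` for `J4` (helper564, for S4313)
-/

set_option autoImplicit false
set_option linter.unusedVariables false

namespace Cfsg.Agent.H564.SporRow

open Subgroup Cfsg Cfsg.Agent.H94.PG Cfsg.Agent.H94.PG.Sp Cfsg.Agent.H564.Reduction

def NJ : ℕ := 86775571046077562880
def RJ : List ℕ := [23, 29, 31, 37, 43]

def tabJ : List (ℕ × List ℕ) := [(23, []), (23, [29, 31]), (23, [31, 43]), (23, [29, 37, 43]), (29, []), (29, [31]),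
  (29, [43]), (29, [31, 43]), (31, []), (31, [43]), (31, [37, 43]), (31, [29, 37, 43]), (31, [23, 29, 37, 43]),
  (37, []), (37, [43]), (37, [23, 29]), (37, [29, 43]), (37, [31, 43]), (37, [23, 29, 43]), (37, [23, 29, 31, 43]),
  (43, []), (43, [29]), (43, [31]), (43, [31, 37])]

def tabJ2 : List (ℕ × List ℕ) := [(23, [29, 31]), (23, [31, 43]), (29, [31]), (29, [43]), (29, [31, 43]), (31, [43]), (31, [37, 43]), (37, [43]), (37, [29, 43]), (37, [31, 43]), (43, [29]), (43, [31]), (43, [31, 37])]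

theorem table_j : ∀ s ∈ RJ, ∀ L ∈ (RJ.erase s).sublists, Adm NJ s L → (s, L) ∈ tabJ := by decide +kernel

theorem prime_rj : ∀ r ∈ RJ, r.Prime := by
  intro r hr
  simp only [RJ, List.mem_cons, List.not_mem_nil, or_false] at hr
  rcases hr with rfl | rfl | rfl | rfl | rfl <;> norm_num

theorem squarefree_prod (L : List ℕ) (hLn : L.Nodup) (hLp : ∀ p ∈ L, p.Prime) : Squarefree L.prod := by
  rw [Nat.squarefree_iff_prime_squarefree]
  intro p hp hpp
  induction L with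
  | nil =>
    rw [List.prod_nil] at hpp
    exact hp.one_lt.ne' (Nat.dvd_one.1 ((dvd_mul_right p p).trans hpp))
  | cons q L ih =>
    rw [List.prod_cons] at hpp
    have hq := hLp q List.mem_cons_self
    have hLn' := List.nodup_cons.1 hLn
    by_cases hpq : p = q
    · subst hpq
      have h1 : p ∣ L.prod := Nat.dvd_of_mul_dvd_mul_left hp.pos hpp
      have h2 : p ∈ L := by
        have h3 := (Prime.dvd_prod_iff hp.prime).1 h1
        obtain ⟨a, ha, hpa⟩ := h3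
        rwa [(Nat.prime_dvd_prime_iff_eq hp (hLp a (List.mem_cons_of_mem _ ha))).1 hpa]
      exact hLn'.1 h2
    · apply ih hLn'.2 (fun r hr => hLp r (List.mem_cons_of_mem _ hr))
      have h1 : (p * p).Coprime q := by
        have : p.Coprime q := (Nat.coprime_primes hp hq).2 hpq
        exact Nat.Coprime.mul_left this this
      exact h1.dvd_of_dvd_mul_left hpp

theorem cop_j : ∀ L ∈ RJ.sublists, L.prod.Coprime (L.map (· - 1)).prod := by decide +kernel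

theorem cyc_j {L : List ℕ} (hL : L.Sublist RJ) : Squarefree L.prod ∧ L.prod.Coprime L.prod.totient := by
  have h1 : L.Nodup := List.Nodup.sublist hL (by decide)
  have h2 : ∀ p ∈ L, p.Prime := fun p hp => prime_rj p (hL.subset hp)
  refine ⟨squarefree_prod L h1 h2, ?_⟩
  rw [totient_prod L h2 h1]
  exact cop_j L (List.mem_sublists.2 hL)

/-! ### exclusions -/

theorem e_j1 : ∀ e ∈ List.range 37, e ∣ 36 → 37 * (23 * 29) * e ∣ NJ → NJ / (37 * (23 * 29) * e) % 37 = 1 → e = 12 := by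
  decide +kernel

theorem e_j2 : ∀ e ∈ List.range 37, e ∣ 36 → 37 * 43 * e ∣ NJ → NJ / (37 * 43 * e) % 37 = 1 → e = 2 := by
  decide +kernel

theorem odd_cent {K : Type*} [Group K] [Finite K] {y : K} (hy : (orderOf y).Prime) (h2 : orderOf y ≠ 2)
    (h : ¬ Adj K (orderOf y) 2) : ¬ 2 ∣ Nat.card (centralizer ({y} : Set K)) := fun h' =>
  h (dvd_card_cent_iff hy Nat.prime_two h2.symm h').symm

/-- **`C(37) = 37·23·29` is impossible if 23 is not adjacent to 2** -/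
theorem excl_j1 {K : Type*} [Group K] [Finite K] (hN : Nat.card K = NJ) (h1 : FarEl K RJ 37 [23, 29])
    (h2 : ¬ Adj K 23 2) : False := by
  obtain ⟨x, hx⟩ := h1.ex
  obtain ⟨hcx, e, he, hn, hdv, hmod⟩ := h1.el x hx
  have f23 : Fact (Nat.Prime 23) := ⟨by norm_num⟩
  have hp1 : [23, 29].prod = 23 * 29 := by norm_num
  rw [hp1] at hcx hn hdv hmod
  rw [hN] at hdv hmod
  obtain ⟨y, hy⟩ := exists_prime_orderOf_dvd_card' (G := centralizer ({x} : Set K)) 23 (by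
    rw [hcx]; norm_num)
  have hyx : Commute (y : K) x := mem_centralizer_singleton_iff.1 y.2
  have hyo : orderOf (y : K) = 23 := by rw [Subgroup.orderOf_coe, hy]
  have hcyc : IsCyclic (centralizer ({x} : Set K)) := by
    have h3 := cyc_j (L := [23, 29, 37]) (by decide)
    have h4 : [23, 29, 37].prod = 37 * (23 * 29) := by norm_num
    rw [h4] at h3
    exact isCyclic_of_card' hcx h3.1 h3.2
  have hd := card_normalizer_dvd hcyc hyx
  have e1 : e = 12 := e_j1 e (by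
    rw [List.mem_range]
    have := Nat.le_of_dvd (by norm_num) he
    omega) he hdv hmod
  obtain ⟨e', he', hn', -, -⟩ := normalizer_arith (by norm_num : Nat.Prime 23) hyo (by rw [hN]; decide +kernel)
  have hodd := odd_cent (y := (y : K)) (by rw [hyo]; norm_num) (by rw [hyo]; norm_num) (by rw [hyo]; exact h2)
  rw [hn, hn', e1] at hd
  have h4 : 4 ∣ Nat.card (centralizer ({(y : K)} : Set K)) * e' := (by norm_num : 4 ∣ 37 * (23 * 29) * 12).trans hd
  have hcop : Nat.Coprime 4 (Nat.card (centralizer ({(y : K)} : Set K))) := by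
    rw [show 4 = 2 ^ 2 by norm_num]
    exact Nat.Coprime.pow_left 2 ((Nat.Prime.coprime_iff_not_dvd Nat.prime_two).2 hodd)
  have h5 : 4 ∣ e' := hcop.dvd_of_dvd_mul_left h4
  have h6 : 4 ∣ 22 := h5.trans he'
  norm_num at h6

/-- the arithmetic of the second exclusion -/
theorem arith_j2 : ∀ k1 ∈ [1, 3, 9, 27], ∀ k2 ∈ [1, 5], ∀ k3 ∈ [1, 7], ∀ k4 ∈ [1, 11, 121, 1331], ∀ k5 ∈ [1, 23],
    ∀ e1 ∈ (List.range 37), e1 ∣ 36 → e1 ∣ k1 * (k2 * (k3 * (k4 * k5))) → k1 * (k2 * (k3 * (k4 * k5))) / e1 % 37 = 1 →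
    ∀ e2 ∈ [2, 6, 14, 42], 37 * 43 * (k1 * (k2 * (k3 * (k4 * k5)))) * e2 ∣ NJ →
      NJ / (37 * 43 * (k1 * (k2 * (k3 * (k4 * k5)))) * e2) % 43 ≠ 1 := by
  decide +kernel

/-- **`C(37) = 37·43` is impossible if 43 is not adjacent to 2, 29, 31** -/
theorem excl_j2 {K : Type*} [Group K] [Finite K] (hN : Nat.card K = NJ) (h1 : FarEl K RJ 37 [43])
    (h2 : ¬ Adj K 43 2) (h29 : ¬ Adj K 29 43) (h31 : ¬ Adj K 31 43) : False := by
  obtain ⟨x, hx⟩ := h1.ex
  obtain ⟨hcx, e, he, hn, hdv, hmod⟩ := h1.el x hx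
  have f43 : Fact (Nat.Prime 43) := ⟨by norm_num⟩
  have hp1 : [43].prod = 43 := by norm_num
  rw [hp1] at hcx hn hdv hmod
  rw [hN] at hdv hmod
  obtain ⟨y, hy⟩ := exists_prime_orderOf_dvd_card' (G := centralizer ({x} : Set K)) 43 (by
    rw [hcx]; exact dvd_mul_left _ _)
  obtain ⟨y, hyC⟩ := y
  rw [Subgroup.orderOf_mk] at hy
  have hyx : Commute y x := mem_centralizer_singleton_iff.1 hyC
  have hcyc : IsCyclic (centralizer ({x} : Set K)) := by
    have h3 := cyc_j (L := [37, 43]) (by decide)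
    have h4 : [37, 43].prod = 37 * 43 := by norm_num
    rw [h4] at h3
    exact isCyclic_of_card' hcx h3.1 h3.2
  have hd := card_normalizer_dvd hcyc hyx
  have e1 : e = 2 := e_j2 e (by
    rw [List.mem_range]
    have := Nat.le_of_dvd (by norm_num) he
    omega) he hdv hmod
  obtain ⟨e2, he2, hn2, hdv2, hmod2⟩ := normalizer_arith (by norm_num : Nat.Prime 43) hy (by rw [hN]; decide +kernel)
  have hyp : (orderOf y).Prime := by rw [hy]; norm_num
  have hodd := odd_cent (y := y) hyp (by rw [hy]; norm_num) (by rw [hy]; exact h2)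
  have hn29 : ¬ 29 ∣ Nat.card (centralizer ({y} : Set K)) := fun h' => h29 (by
    have := dvd_card_cent_iff hyp (by norm_num : Nat.Prime 29) (by rw [hy]; norm_num) h'
    rwa [hy] at this)
  have hn31 : ¬ 31 ∣ Nat.card (centralizer ({y} : Set K)) := fun h' => h31 (by
    have := dvd_card_cent_iff hyp (by norm_num : Nat.Prime 31) (by rw [hy]; norm_num) h'
    rwa [hy] at this)
  rw [hn, hn2, e1] at hd
  -- `e2` is even
  have he2' : 2 ∣ e2 := by
    have h4 : 2 ∣ Nat.card (centralizer ({y} : Set K)) * e2 := (dvd_mul_left 2 _).trans hd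
    rcases Nat.prime_two.dvd_mul.1 h4 with h | h
    · exact absurd h hodd
    · exact h
  -- the group `H = C(y)`
  set H := centralizer ({y} : Set K) with hH
  have hab : ∀ a b : K, Commute a x → Commute b x → Commute a b := by
    intro a b ha hb
    have := (IsCyclic.commGroup (α := centralizer ({x} : Set K))).mul_comm
      ⟨a, mem_centralizer_singleton_iff.2 ha⟩ ⟨b, mem_centralizer_singleton_iff.2 hb⟩
    exact congrArg Subtype.val this
  have hxH : x ∈ H := mem_centralizer_singleton_iff.2 hyx.symm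
  have hcxH : Nat.card (centralizer ({(⟨x, hxH⟩ : H)} : Set H)) = 37 * 43 := by
    rw [← hcx]
    refine Nat.card_congr ⟨fun a => ⟨(a : H), mem_centralizer_singleton_iff.2
        (congrArg Subtype.val (mem_centralizer_singleton_iff.1 a.2))⟩,
      fun a => ⟨⟨a, mem_centralizer_singleton_iff.2 (hab _ _ (mem_centralizer_singleton_iff.1 a.2) hyx)⟩,
        mem_centralizer_singleton_iff.2 (Subtype.ext (mem_centralizer_singleton_iff.1 a.2))⟩,
      fun a => rfl, fun a => rfl⟩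
  have hHd : Nat.card H ∣ NJ := hN ▸ Subgroup.card_subgroup_dvd_card H
  obtain ⟨f, hf, -, hfd, hfm⟩ := normalizer_arith (G := H) (x := ⟨x, hxH⟩) (by norm_num : Nat.Prime 37)
    (by rw [Subgroup.orderOf_mk, hx]) (fun h => (by decide +kernel : ¬ 37 * 37 ∣ NJ) (h.trans hHd))
  rw [hcxH] at hfd hfm
  -- the order of `H`
  obtain ⟨k, hk⟩ : 37 * 43 ∣ Nat.card H := (dvd_mul_right _ _).trans hfd
  have hkM : k ∣ 2 ^ 21 * 29 * 31 * (27 * (5 * (7 * (1331 * 23)))) := by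
    rw [hk] at hHd
    have h3 : NJ = 37 * 43 * (2 ^ 21 * 29 * 31 * (27 * (5 * (7 * (1331 * 23))))) := by
      unfold NJ; norm_num
    rw [h3] at hHd
    exact Nat.dvd_of_mul_dvd_mul_left (by norm_num) hHd
  have hkd : k ∣ Nat.card H := by rw [hk]; exact dvd_mul_left _ _
  have hcop : Nat.Coprime k (2 ^ 21 * 29 * 31) := by
    refine Nat.Coprime.mul_right (Nat.Coprime.mul_right (Nat.Coprime.pow_right 21 ?_) ?_) ?_
    · exact ((Nat.Prime.coprime_iff_not_dvd Nat.prime_two).2 fun h => hodd (h.trans hkd)).symm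
    · exact ((Nat.Prime.coprime_iff_not_dvd (by norm_num)).2 fun h => hn29 (h.trans hkd)).symm
    · exact ((Nat.Prime.coprime_iff_not_dvd (by norm_num)).2 fun h => hn31 (h.trans hkd)).symm
  have hkM' := hcop.dvd_of_dvd_mul_left hkM
  obtain ⟨k1, m1, hk1, hm1, rfl⟩ := Nat.dvd_mul.1 hkM'
  obtain ⟨k2, m2, hk2, hm2, rfl⟩ := Nat.dvd_mul.1 hm1
  obtain ⟨k3, m3, hk3, hm3, rfl⟩ := Nat.dvd_mul.1 hm2
  obtain ⟨k4, k5, hk4, hk5, rfl⟩ := Nat.dvd_mul.1 hm3
  have l1 : k1 ∈ [1, 3, 9, 27] := by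
    obtain ⟨m, hm, rfl⟩ := (Nat.dvd_prime_pow Nat.prime_three).1 (show k1 ∣ 3 ^ 3 from hk1)
    interval_cases m <;> simp
  have l2 : k2 ∈ [1, 5] := by
    rcases (Nat.dvd_prime (by norm_num)).1 hk2 with rfl | rfl <;> simp
  have l3 : k3 ∈ [1, 7] := by
    rcases (Nat.dvd_prime (by norm_num)).1 hk3 with rfl | rfl <;> simp
  have l4 : k4 ∈ [1, 11, 121, 1331] := by
    obtain ⟨m, hm, rfl⟩ := (Nat.dvd_prime_pow (by norm_num : Nat.Prime 11)).1 (show k4 ∣ 11 ^ 3 from hk4)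
    interval_cases m <;> simp
  have l5 : k5 ∈ [1, 23] := by
    rcases (Nat.dvd_prime (by norm_num)).1 hk5 with rfl | rfl <;> simp
  have l6 : e2 ∈ [2, 6, 14, 42] := by
    have h3 : e2 ≤ 42 := Nat.le_of_dvd (by norm_num) he2
    have h4 : e2 ∣ 42 := he2
    clear hn2 hdv2 hmod2 hd
    interval_cases e2 <;> first | (simp; done) | (exfalso; revert he2' h4; decide)
  have l7 : f ∈ List.range 37 := by
    rw [List.mem_range]
    have := Nat.le_of_dvd (by norm_num) hf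
    omega
  rw [hk] at hfd hfm hdv2 hmod2
  rw [hN] at hdv2 hmod2
  refine arith_j2 k1 l1 k2 l2 k3 l3 k4 l4 k5 l5 f l7 hf ?_ ?_ e2 l6 hdv2 hmod2
  · exact Nat.dvd_of_mul_dvd_mul_left (by norm_num) hfd
  · rwa [Nat.mul_div_mul_left _ _ (by norm_num)] at hfm

theorem noConf_j4 {K : Type*} [Group K] [Finite K] (h : Spor.IsoJ4 K) : NoConf K := by
  intro f v bad hf h1 h5 hv hadj
  have hN : Nat.card K = NJ := NotCT.Orders.j4 h
  have hnr : ∀ r : ℕ, r.Prime → r ∣ Nat.card K → r ∉ RJ → Nr K r := fun r hr hd hR =>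
    nr_j4 h hr (by rw [hN] at hd; exact hd) hR
  have hnd : RJ.Nodup := by decide
  have hsq : ∀ r ∈ RJ, ¬ r * r ∣ Nat.card K := by rw [hN]; decide +kernel
  have hfar : ∀ i ≤ 6, (i + 2 ≤ f 2 ∨ f 2 + 2 ≤ i) → ¬ bad i ∧ v i ∈ RJ ∧ f (v i) = i := by
    intro i hi hi2
    have hb : ¬ bad i := fun hb => by
      have := h5 i hi hb
      omega
    obtain ⟨hp, hd, hfi⟩ := hv i hi hb
    refine ⟨hb, ?_, hfi⟩
    by_contra hno
    rcases hnr _ hp hd hno with h2 | h2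
    · rw [h2] at hfi
      omega
    · have e1 := hf _ _ h2
      have e2 := hf _ _ h2.symm
      omega
  have hc := card_far_le (R := RJ) (f := f) (v := v) fun i hi h => (hfar i hi h).2
  have hx : f 2 ≤ 6 := by
    have h4 : RJ.length = 5 := rfl
    rw [h4] at hc
    by_contra hcon
    have h6 : f 2 = 7 ∨ f 2 = 8 ∨ 8 < f 2 := by omega
    rcases h6 with h6 | h6 | h6
    · rw [h6] at hc; revert hc; decide
    · rw [h6] at hc; revert hc; decide
    · have : ((Finset.range 7).filter fun i => i + 2 ≤ f 2 ∨ f 2 + 2 ≤ i) = Finset.range 7 := by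
        apply Finset.filter_true_of_mem
        intro i hi
        rw [Finset.mem_range] at hi
        omega
      rw [this, Finset.card_range] at hc
      omega
  -- the table
  have hT : ∀ i ≤ 6, (i + 3 ≤ f 2 ∨ f 2 + 3 ≤ i) → ∃ L, FarEl K RJ (v i) L ∧ (v i, L) ∈ tabJ ∧
      (∀ q ∈ L, f q ≤ i + 1 ∧ i ≤ f q + 1) ∧ (∀ j ≤ 6, (j + 2 ≤ f 2 ∨ f 2 + 2 ≤ j) → (j = i + 1 ∨ i = j + 1) → v j ∈ L) := by
    intro i hi hi3
    obtain ⟨hb, hR, hfi⟩ := hfar i hi (by omega)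
    obtain ⟨hp, hd, -⟩ := hv i hi hb
    obtain ⟨L, hL⟩ := exists_farEl prime_rj hnd hsq hnr hf hp hd (by rw [hfi]; exact hi3)
    refine ⟨L, hL, table_j _ hR L hL.mem (hN ▸ hL.adm hp), ?_, ?_⟩
    · intro q hq
      have h2 := (hL.adj q).1 hq
      have e1 := hf _ _ h2
      have e2 := hf _ _ h2.symm
      omega
    · intro j hj hj2 hij
      obtain ⟨hbj, -, -⟩ := hfar j hj hj2
      apply (hL.adj _).2
      rcases hij with rfl | rfl
      · exact (hadj i (by omega) hb hbj).symm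
      · exact hadj j (by omega) hbj hb
  obtain ⟨x, hfx⟩ : ∃ x, f 2 = x := ⟨_, rfl⟩
  have hnadj2 : ∀ q, (f q + 2 ≤ x ∨ x + 2 ≤ f q) → ¬ Adj K q 2 := by
    intro q hq h2
    have e1 := hf _ _ h2
    have e2 := hf _ _ h2.symm
    omega
  have hnadj : ∀ p q, (f p + 2 ≤ f q ∨ f q + 2 ≤ f p) → ¬ Adj K p q := by
    intro p q hq h2
    have e1 := hf _ _ h2
    have e2 := hf _ _ h2.symm
    omega
  rw [hfx] at hx hT hfar
  -- values of `f`
  have val : ∀ j ≤ 6, (j + 2 ≤ x ∨ x + 2 ≤ j) → ∀ q, v j = q → f q = j := fun j hj h q hq => hq ▸ (hfar j hj h).2.2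
  have valR : ∀ j ≤ 6, (j + 2 ≤ x ∨ x + 2 ≤ j) → j = f 23 ∨ j = f 29 ∨ j = f 31 ∨ j = f 37 ∨ j = f 43 := by
    intro j hj h
    obtain ⟨-, h1, h2⟩ := hfar j hj h
    simp only [RJ, List.mem_cons, List.not_mem_nil, or_false] at h1
    rcases h1 with h1 | h1 | h1 | h1 | h1 <;> rw [h1] at h2
    · exact Or.inl h2.symm
    · exact Or.inr (Or.inl h2.symm)
    · exact Or.inr (Or.inr (Or.inl h2.symm))
    · exact Or.inr (Or.inr (Or.inr (Or.inl h2.symm)))
    · exact Or.inr (Or.inr (Or.inr (Or.inr h2.symm)))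
  -- interior indices
  have hint : ∀ i, 1 ≤ i → i ≤ 5 → (i + 3 ≤ x ∨ x + 3 ≤ i) → False := by
    intro i hi1 hi5 hi3
    obtain ⟨L, F, T, A, B⟩ := hT i (by omega) hi3
    have b1 := B (i - 1) (by omega) (by omega) (by omega)
    have b2 := B (i + 1) (by omega) (by omega) (by omega)
    have v1 := val (i - 1) (by omega) (by omega) _ rfl
    have v2 := val (i + 1) (by omega) (by omega) _ rfl
    have hsub : L.Sublist RJ := (List.mem_sublists.1 F.mem).trans List.erase_sublist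
    obtain ⟨h3, h4⟩ := cyc_j hsub
    have h5 := F.adj_of_cop h3 h4 b1 b2 (by
      intro h
      rw [h] at v1
      omega)
    exact hnadj _ _ (by omega) h5
  by_cases hx3 : x = 3
  swap
  · have h7 : x = 0 ∨ x = 1 ∨ x = 2 ∨ x = 4 ∨ x = 5 ∨ x = 6 := by omega
    rcases h7 with h7 | h7 | h7 | h7 | h7 | h7
    · exact hint 3 (by omega) (by omega) (by omega)
    · exact hint 4 (by omega) (by omega) (by omega)
    · exact hint 5 (by omega) (by omega) (by omega)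
    · exact hint 1 (by omega) (by omega) (by omega)
    · exact hint 1 (by omega) (by omega) (by omega)
    · exact hint 1 (by omega) (by omega) (by omega)
  subst hx3
  obtain ⟨L0, F0, T0, A0, B0⟩ := hT 0 (by norm_num) (by norm_num)
  obtain ⟨L6, F6, T6, A6, B6⟩ := hT 6 (by norm_num) (by norm_num)
  have b1 := B0 1 (by norm_num) (by norm_num) (by norm_num)
  have b5 := B6 5 (by norm_num) (by norm_num) (by norm_num)
  have r0 := valR 0 (by norm_num) (by norm_num)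
  have r1 := valR 1 (by norm_num) (by norm_num)
  have r5 := valR 5 (by norm_num) (by norm_num)
  have r6 := valR 6 (by norm_num) (by norm_num)
  have v0 := val 0 (by norm_num) (by norm_num)
  have v6 := val 6 (by norm_num) (by norm_num)
  -- `C(37) = 37·23·29` is impossible
  have hE1 : ∀ {s : ℕ} {L : List ℕ}, FarEl K RJ s L → s = 37 → L = [23, 29] → (f 23 ≤ 1 ∨ 5 ≤ f 23) → False := by
    rintro s L F rfl rfl h
    exact excl_j1 hN F (hnadj2 23 (by omega))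
  have hE2 : ∀ {s : ℕ} {L : List ℕ}, FarEl K RJ s L → s = 37 → L = [43] → (f 43 ≤ 1 ∨ 5 ≤ f 43) →
      (f 29 + 2 ≤ f 43 ∨ f 43 + 2 ≤ f 29) → (f 31 + 2 ≤ f 43 ∨ f 43 + 2 ≤ f 31) → False := by
    rintro s L F rfl rfl h h29 h31
    exact excl_j2 hN F (hnadj2 43 (by omega)) (hnadj _ _ h29) (hnadj _ _ h31)
  simp only [tabJ, List.mem_cons, Prod.mk.injEq, List.not_mem_nil, or_false] at T0 T6
  have key0 : (v 0, L0) ∈ tabJ2 := by
    rcases T0 with ⟨hs, rfl⟩ | ⟨hs, rfl⟩ | ⟨hs, rfl⟩ | ⟨hs, rfl⟩ | ⟨hs, rfl⟩ | ⟨hs, rfl⟩ | ⟨hs, rfl⟩ | ⟨hs, rfl⟩ |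
      ⟨hs, rfl⟩ | ⟨hs, rfl⟩ | ⟨hs, rfl⟩ | ⟨hs, rfl⟩ | ⟨hs, rfl⟩ | ⟨hs, rfl⟩ | ⟨hs, rfl⟩ | ⟨hs, rfl⟩ |
      ⟨hs, rfl⟩ | ⟨hs, rfl⟩ | ⟨hs, rfl⟩ | ⟨hs, rfl⟩ | ⟨hs, rfl⟩ | ⟨hs, rfl⟩ | ⟨hs, rfl⟩ | ⟨hs, rfl⟩ <;>
      simp only [List.mem_cons, List.not_mem_nil, or_false, forall_eq_or_imp, forall_eq] at b1 A0 <;>
      have e0 := v0 _ hs
    · rw [hs]; decide
    · rw [hs]; decide
    · exfalso; clear hs b1; omega
    · rw [hs]; decide
    · rw [hs]; decide
    · rw [hs]; decide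
    · rw [hs]; decide
    · rw [hs]; decide
    · exfalso; clear hs b1; omega
    · exfalso; clear hs b1; omega
    · rw [hs]; decide
    · exact (hE1 F0 hs rfl (by omega)).elim
    · rw [hs]; decide
    · rw [hs]; decide
    · exfalso; clear hs b1; omega
    · exfalso; clear hs b1; omega
    · rw [hs]; decide
    · rw [hs]; decide
    · rw [hs]; decide
  have key6 : (v 6, L6) ∈ tabJ2 := by
    rcases T6 with ⟨hs, rfl⟩ | ⟨hs, rfl⟩ | ⟨hs, rfl⟩ | ⟨hs, rfl⟩ | ⟨hs, rfl⟩ | ⟨hs, rfl⟩ | ⟨hs, rfl⟩ | ⟨hs, rfl⟩ |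
      ⟨hs, rfl⟩ | ⟨hs, rfl⟩ | ⟨hs, rfl⟩ | ⟨hs, rfl⟩ | ⟨hs, rfl⟩ | ⟨hs, rfl⟩ | ⟨hs, rfl⟩ | ⟨hs, rfl⟩ |
      ⟨hs, rfl⟩ | ⟨hs, rfl⟩ | ⟨hs, rfl⟩ | ⟨hs, rfl⟩ | ⟨hs, rfl⟩ | ⟨hs, rfl⟩ | ⟨hs, rfl⟩ | ⟨hs, rfl⟩ <;>
      simp only [List.mem_cons, List.not_mem_nil, or_false, forall_eq_or_imp, forall_eq] at b5 A6 <;>
      have e0 := v6 _ hs
    · rw [hs]; decide
    · rw [hs]; decide
    · exfalso; clear hs b5; omega
    · rw [hs]; decide
    · rw [hs]; decide
    · rw [hs]; decide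
    · rw [hs]; decide
    · rw [hs]; decide
    · exfalso; clear hs b5; omega
    · exfalso; clear hs b5; omega
    · rw [hs]; decide
    · exact (hE1 F6 hs rfl (by omega)).elim
    · rw [hs]; decide
    · rw [hs]; decide
    · exfalso; clear hs b5; omega
    · exfalso; clear hs b5; omega
    · rw [hs]; decide
    · rw [hs]; decide
    · rw [hs]; decide
  clear r0 r1 r5 r6 T0 T6
  simp only [tabJ2, List.mem_cons, Prod.mk.injEq, List.not_mem_nil, or_false] at key0 key6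
  rcases key0 with ⟨hs, rfl⟩ | ⟨hs, rfl⟩ | ⟨hs, rfl⟩ | ⟨hs, rfl⟩ | ⟨hs, rfl⟩ | ⟨hs, rfl⟩ | ⟨hs, rfl⟩ | ⟨hs, rfl⟩ |
    ⟨hs, rfl⟩ | ⟨hs, rfl⟩ | ⟨hs, rfl⟩ | ⟨hs, rfl⟩ | ⟨hs, rfl⟩ <;>
    simp only [List.mem_cons, List.not_mem_nil, or_false, forall_eq_or_imp, forall_eq] at A0 <;>
    have e0 := v0 _ hs <;>
    rcases key6 with ⟨ht, rfl⟩ | ⟨ht, rfl⟩ | ⟨ht, rfl⟩ | ⟨ht, rfl⟩ | ⟨ht, rfl⟩ | ⟨ht, rfl⟩ | ⟨ht, rfl⟩ | ⟨ht, rfl⟩ |
    ⟨ht, rfl⟩ | ⟨ht, rfl⟩ | ⟨ht, rfl⟩ | ⟨ht, rfl⟩ | ⟨ht, rfl⟩ <;>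
    simp only [List.mem_cons, List.not_mem_nil, or_false, forall_eq_or_imp, forall_eq] at A6 <;>
    have e6 := v6 _ ht <;>
    first
    | omega
    | exact hE2 F0 hs rfl (by omega) (by omega) (by omega)
    | exact hE2 F6 ht rfl (by omega) (by omega) (by omega)

end Cfsg.Agent.H564.SporRow
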