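import Cfsg.Agent.H564.Reduction
import Cfsg.Agent.H94.Sp.AC

/-!
# `NoConf` for the sporadic groups except `J4`, `M`, and for the Tits group (helper564, for S4313)

At most three odd primes are not adjacent to 2.
-/

set_option autoImplicit false

namespace Cfsg.Agent.H564.SporRow

open Cfsg Cfsg.Agent.H94.PG Cfsg.Agent.H94.PG.Sp Cfsg.Agent.H564.Reduction

theorem noConf_of_nr {K : Type*} [Group K] [Finite K] (N : ℕ) (R : List ℕ) (hN : Nat.card K = N) (hR : R.length ≤ 3)
    (h : ∀ {r : ℕ}, r.Prime → r ∣ N → r ∉ R → Nr K r) : NoConf K := by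
  classical
  refine noConf_of_few R.toFinset ((List.toFinset_card_le R).trans hR) fun r hr hd hrR => ?_
  exact h hr (hN ▸ hd) fun h' => hrR (List.mem_toFinset.2 h')

theorem m11 {K : Type*} [Group K] [Finite K] (h : Spor.IsoM11 K) : NoConf K :=
  noConf_of_nr 7920 [5, 11] (NotCT.Orders.m11 h) (by decide) (nr_m11' h)

theorem m12 {K : Type*} [Group K] [Finite K] (h : Spor.IsoM12 K) : NoConf K :=
  noConf_of_nr 95040 [11] (NotCT.Orders.m12 h) (by decide) (nr_m12' h)

theorem m22 {K : Type*} [Group K] [Finite K] (h : Spor.IsoM22 K) : NoConf K :=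
  noConf_of_nr 443520 [5, 7, 11] (NotCT.Orders.m22 h) (by decide) (nr_m22' h)

theorem m23 {K : Type*} [Group K] [Finite K] (h : Spor.IsoM23 K) : NoConf K :=
  noConf_of_nr 10200960 [5, 11, 23] (NotCT.Orders.m23 h) (by decide) (nr_m23' h)

theorem m24 {K : Type*} [Group K] [Finite K] (h : Spor.IsoM24 K) : NoConf K :=
  noConf_of_nr 244823040 [11, 23] (NotCT.Orders.m24 h) (by decide) (nr_m24' h)

theorem j1 {K : Type*} [Group K] [Finite K] (h : Spor.IsoJ1 K) : NoConf K :=
  noConf_of_nr 175560 [7, 11, 19] (NotCT.Orders.j1 h) (by decide) (nr_j1 h)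

theorem j2 {K : Type*} [Group K] [Finite K] (h : Spor.IsoJ2 K) : NoConf K :=
  noConf_of_nr 604800 [7] (NotCT.Orders.j2 h) (by decide) (nr_j2 h)

theorem j3 {K : Type*} [Group K] [Finite K] (h : Spor.IsoJ3 K) : NoConf K :=
  noConf_of_nr 50232960 [17, 19] (NotCT.Orders.j3 h) (by decide) (nr_j3 h)

theorem hs {K : Type*} [Group K] [Finite K] (h : Spor.IsoHS K) : NoConf K :=
  noConf_of_nr 44352000 [7, 11] (NotCT.Orders.hs h) (by decide) (nr_hs h)

theorem mcl {K : Type*} [Group K] [Finite K] (h : Spor.IsoMcL K) : NoConf K :=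
  noConf_of_nr 898128000 [11] (NotCT.Orders.mcl h) (by decide) (nr_mcl h)

theorem suz {K : Type*} [Group K] [Finite K] (h : Spor.IsoSuz K) : NoConf K :=
  noConf_of_nr 448345497600 [11, 13] (NotCT.Orders.suz h) (by decide) (nr_suz h)

theorem ly {K : Type*} [Group K] [Finite K] (h : Spor.IsoLy K) : NoConf K :=
  noConf_of_nr 51765179004000000 [31, 37, 67] (NotCT.Orders.ly h) (by decide) (nr_ly h)

theorem he {K : Type*} [Group K] [Finite K] (h : Spor.IsoHe K) : NoConf K :=
  noConf_of_nr 4030387200 [17] (NotCT.Orders.he h) (by decide) (nr_he h)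

theorem ru {K : Type*} [Group K] [Finite K] (h : Spor.IsoRu K) : NoConf K :=
  noConf_of_nr 145926144000 [29] (NotCT.Orders.ru h) (by decide) (nr_ru h)

theorem on {K : Type*} [Group K] [Finite K] (h : Spor.IsoON K) : NoConf K :=
  noConf_of_nr 460815505920 [11, 19, 31] (NotCT.Orders.on h) (by decide) (nr_on h)

theorem co1 {K : Type*} [Group K] [Finite K] (h : Spor.IsoCo1 K) : NoConf K :=
  noConf_of_nr 4157776806543360000 [23] (NotCT.Orders.co1 h) (by decide) (nr_co1 h)

theorem co2 {K : Type*} [Group K] [Finite K] (h : Spor.IsoCo2 K) : NoConf K :=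
  noConf_of_nr 42305421312000 [11, 23] (NotCT.Orders.co2 h) (by decide) (nr_co2 h)

theorem co3 {K : Type*} [Group K] [Finite K] (h : Spor.IsoCo3 K) : NoConf K :=
  noConf_of_nr 495766656000 [23] (NotCT.Orders.co3 h) (by decide) (nr_co3 h)

theorem fi22 {K : Type*} [Group K] [Finite K] (h : Spor.IsoFi22 K) : NoConf K :=
  noConf_of_nr 64561751654400 [13] (NotCT.Orders.fi22 h) (by decide) (nr_fi22 h)

theorem fi23 {K : Type*} [Group K] [Finite K] (h : Spor.IsoFi23 K) : NoConf K :=
  noConf_of_nr 4089470473293004800 [17, 23] (NotCT.Orders.fi23 h) (by decide) (nr_fi23 h)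

theorem fi24 {K : Type*} [Group K] [Finite K] (h : Spor.IsoFi24' K) : NoConf K :=
  noConf_of_nr 1255205709190661721292800 [17, 23, 29] (NotCT.Orders.fi24 h) (by decide) (nr_fi24 h)

theorem hn {K : Type*} [Group K] [Finite K] (h : Spor.IsoHN K) : NoConf K :=
  noConf_of_nr 273030912000000 [19] (NotCT.Orders.hn h) (by decide) (nr_hn h)

theorem th {K : Type*} [Group K] [Finite K] (h : Spor.IsoTh K) : NoConf K :=
  noConf_of_nr 90745943887872000 [13, 19, 31] (NotCT.Orders.th h) (by decide) (nr_th h)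

theorem b {K : Type*} [Group K] [Finite K] (h : Spor.IsoB K) : NoConf K :=
  noConf_of_nr 4154781481226426191177580544000000 [31, 47] (NotCT.Orders.b h) (by decide) (nr_b h)

theorem tits {K : Type*} [Group K] [Finite K] (h : Lie.IsoTits K) : NoConf K :=
  noConf_of_nr 17971200 [13] (NotCT.Orders.tits h) (by decide) (nr_tits h)

end Cfsg.Agent.H564.SporRow
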