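import Cfsg.Agent.H564.Reduction
import Cfsg.Agent.H94.Sp.AC

/-!
# Tools for `NoConf` of `J4` and of the Monster (helper564, for S4313)

* `normalizer_arith` : Sylow arithmetic with the order of the normalizer;
* `card_normalizer_dvd` : `N(⟨x⟩) ≤ N(⟨y⟩)` if `C(x)` is cyclic and contains `y`;
* `cent_list` : the order of the centralizer from its prime divisors.
-/

set_option autoImplicit false
set_option linter.unusedVariables false

namespace Cfsg.Agent.H564.SporRow

open Subgroup Cfsg Cfsg.Agent.H94.PG Cfsg.Agent.H94.PG.Sp Cfsg.Agent.H564.Reduction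

/-- Sylow arithmetic for a subgroup of prime order which is a Sylow subgroup, with its normalizer -/
theorem normalizer_arith {G : Type*} [Group G] [Finite G] {x : G} {s : ℕ} (hs : s.Prime) (hx : orderOf x = s)
    (hsq : ¬ s * s ∣ Nat.card G) : ∃ e, e ∣ s - 1 ∧
      Nat.card (normalizer (zpowers x : Set G)) = Nat.card (centralizer ({x} : Set G)) * e ∧
      Nat.card (centralizer ({x} : Set G)) * e ∣ Nat.card G ∧
      Nat.card G / (Nat.card (centralizer ({x} : Set G)) * e) % s = 1 % s := by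
  classical
  have : Fact s.Prime := ⟨hs⟩
  have hcz : Nat.card (zpowers x) = s := by rw [Nat.card_zpowers, hx]
  have hidx : ¬ s ∣ (zpowers x).index := by
    intro h
    apply hsq
    rw [← Subgroup.card_mul_index (zpowers x), hcz]
    exact Nat.mul_dvd_mul_left s h
  have hP : IsPGroup s (zpowers x) := IsPGroup.of_card (n := 1) (by rw [hcz, pow_one])
  let P : Sylow s G := hP.toSylow hidx
  have hPx : (P : Subgroup G) = zpowers x := rfl
  let N := normalizer (zpowers x : Set G)
  let C := centralizer ({x} : Set G)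
  have hCN : C ≤ N := by
    intro g hg
    rw [mem_centralizer_singleton_iff] at hg
    rw [Subgroup.mem_normalizer_iff]
    intro h
    have hgc : Commute g x := hg
    have key : ∀ k : ℤ, g * x ^ k * g⁻¹ = x ^ k := fun k => by
      rw [(hgc.zpow_right k).eq, mul_inv_cancel_right]
    constructor
    · intro hh
      obtain ⟨k, rfl⟩ := mem_zpowers_iff.1 hh
      rw [key]
      exact hh
    · intro hh
      obtain ⟨k, hk⟩ := mem_zpowers_iff.1 hh
      have h1 : h = x ^ k := by
        rw [← key k] at hk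
        have h2 : g * h * g⁻¹ = g * x ^ k * g⁻¹ := by rw [hk]
        simpa using h2
      rw [h1]
      exact zpow_mem (mem_zpowers x) k
  have hNn : ((zpowers x).subgroupOf N).Normal := by
    have := Subgroup.normal_in_normalizer (H := zpowers x)
    exact this
  let Z := (zpowers x).subgroupOf N
  let φ : N →* MulAut Z := MulAut.conjNormal
  have hZc : Nat.card Z = s := by
    rw [Nat.card_congr (Subgroup.subgroupOfEquivOfLe (Subgroup.le_normalizer)).toEquiv, hcz]
  have hker : φ.ker = C.subgroupOf N := by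
    ext g
    rw [MonoidHom.mem_ker, mem_subgroupOf, mem_centralizer_singleton_iff]
    constructor
    · intro h
      have h1 : ((φ g ⟨⟨x, Subgroup.le_normalizer (mem_zpowers x)⟩, mem_zpowers x⟩ : Z) : N) =
          (⟨x, Subgroup.le_normalizer (mem_zpowers x)⟩ : N) := by rw [h]; rfl
      have h2 : (g : G) * x * (g : G)⁻¹ = x := congrArg Subtype.val h1
      calc (g : G) * x = g * x * (g : G)⁻¹ * g := by group
        _ = x * g := by rw [h2]
    · intro h
      apply MulEquiv.ext
      rintro ⟨⟨y, hyN⟩, hy⟩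
      apply Subtype.ext
      apply Subtype.ext
      have hy' : y ∈ zpowers x := hy
      obtain ⟨k, rfl⟩ := mem_zpowers_iff.1 hy'
      change (g : G) * x ^ k * (g : G)⁻¹ = x ^ k
      have hgc : Commute (g : G) x := h
      rw [(hgc.zpow_right k).eq, mul_inv_cancel_right]
  have hcyc : IsCyclic Z := isCyclic_of_prime_card hZc
  have hrange : Nat.card φ.range ∣ s - 1 := by
    have h4 : Nat.card φ.range ∣ Nat.card (MulAut Z) := Subgroup.card_subgroup_dvd_card _
    rwa [IsCyclic.card_mulAut, hZc, Nat.totient_prime hs] at h4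
  have hNcard : Nat.card N = Nat.card C * Nat.card φ.range := by
    rw [← Nat.card_congr (Subgroup.subgroupOfEquivOfLe hCN).toEquiv, ← hker]
    have h1 := Subgroup.card_mul_index φ.ker
    rw [Subgroup.index_ker] at h1
    exact h1.symm
  refine ⟨Nat.card φ.range, hrange, hNcard, ?_, ?_⟩
  · rw [← hNcard]
    exact Subgroup.card_subgroup_dvd_card N
  · rw [← hNcard]
    have h1 : Nat.card (Sylow s G) ≡ 1 [MOD s] := card_sylow_modEq_one s G
    have h2 : Nat.card (Sylow s G) = N.index := by
      rw [Sylow.card_eq_index_normalizer P]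
      rfl
    rw [h2] at h1
    have h3 : Nat.card G / Nat.card N = N.index := by
      rw [← Subgroup.card_mul_index N]
      exact Nat.mul_div_cancel_left _ Nat.card_pos
    rw [h3]
    exact h1

theorem mem_zpowers_of_cyclic {C : Type*} [Group C] [Finite C] [IsCyclic C] {a b : C} (h : orderOf a ∣ orderOf b) :
    a ∈ zpowers b := by
  classical
  have := Fintype.ofFinite C
  have h1 := IsCyclic.card_pow_eq_one_le (α := C) (n := orderOf b) (orderOf_pos b)
  have h2 : (Finset.univ.filter fun z : C => z ∈ zpowers b) ⊆ Finset.univ.filter fun z : C => z ^ orderOf b = 1 := by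
    intro z hz
    rw [Finset.mem_filter] at hz ⊢
    refine ⟨Finset.mem_univ _, ?_⟩
    obtain ⟨k, rfl⟩ := mem_zpowers_iff.1 hz.2
    rw [← zpow_natCast, ← zpow_mul, mul_comm, zpow_mul, zpow_natCast, pow_orderOf_eq_one, one_zpow]
  have h3 : (Finset.univ.filter fun z : C => z ∈ zpowers b).card = orderOf b := by
    rw [← Nat.card_zpowers, Nat.card_eq_fintype_card, Fintype.card_subtype]
  have h4 := Finset.eq_of_subset_of_card_le h2 (by rw [h3]; exact h1)
  have h5 : a ∈ Finset.univ.filter fun z : C => z ^ orderOf b = 1 := by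
    rw [Finset.mem_filter]
    exact ⟨Finset.mem_univ _, orderOf_dvd_iff_pow_eq_one.1 h⟩
  rw [← h4, Finset.mem_filter] at h5
  exact h5.2

/-- the normalizer of `⟨x⟩` normalizes the subgroups of a cyclic centralizer -/
theorem card_normalizer_dvd {G : Type*} [Group G] [Finite G] {x y : G} (hC : IsCyclic (centralizer ({x} : Set G)))
    (hy : Commute y x) :
    Nat.card (normalizer (zpowers x : Set G)) ∣ Nat.card (normalizer (zpowers y : Set G)) := by
  apply Subgroup.card_dvd_of_le
  -- conjugation by `g` in the normalizer maps `y` to a power of `y`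
  have key : ∀ g ∈ normalizer (zpowers x : Set G), g * y * g⁻¹ ∈ zpowers y := by
    intro g hg
    have hyC : y ∈ centralizer ({x} : Set G) := mem_centralizer_singleton_iff.2 hy
    have hgx : g⁻¹ * x * g ∈ zpowers x := by
      have h1 := (Subgroup.mem_normalizer_iff.1 (inv_mem hg) x).1 (mem_zpowers x)
      rwa [inv_inv] at h1
    have hgy : g * y * g⁻¹ ∈ centralizer ({x} : Set G) := by
      rw [mem_centralizer_singleton_iff]
      obtain ⟨k, hk⟩ := mem_zpowers_iff.1 hgx
      have h2 : Commute y (g⁻¹ * x * g) := by rw [← hk]; exact hy.zpow_right k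
      calc g * y * g⁻¹ * x = g * (y * (g⁻¹ * x * g)) * g⁻¹ := by group
        _ = g * ((g⁻¹ * x * g) * y) * g⁻¹ := by rw [h2.eq]
        _ = x * (g * y * g⁻¹) := by group
    have h3 : orderOf (⟨g * y * g⁻¹, hgy⟩ : centralizer ({x} : Set G)) ∣
        orderOf (⟨y, hyC⟩ : centralizer ({x} : Set G)) := by
      rw [Subgroup.orderOf_mk, Subgroup.orderOf_mk]
      apply orderOf_dvd_of_pow_eq_one
      rw [conj_pow, pow_orderOf_eq_one, mul_one, mul_inv_cancel]
    have h4 : (⟨g * y * g⁻¹, hgy⟩ : centralizer ({x} : Set G)) ∈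
        zpowers (⟨y, hyC⟩ : centralizer ({x} : Set G)) := mem_zpowers_of_cyclic h3
    obtain ⟨k, hk⟩ := mem_zpowers_iff.1 h4
    exact mem_zpowers_iff.2 ⟨k, congrArg Subtype.val hk⟩
  intro g hg
  rw [Subgroup.mem_normalizer_iff]
  intro h
  have conj_zpow' : ∀ (g : G) (k : ℤ), g * y ^ k * g⁻¹ = (g * y * g⁻¹) ^ k := fun g k => (conj_zpow).symm
  constructor
  · intro hh
    obtain ⟨k, rfl⟩ := mem_zpowers_iff.1 hh
    rw [conj_zpow']
    exact zpow_mem (key g hg) k
  · intro hh
    obtain ⟨k, hk⟩ := mem_zpowers_iff.1 hh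
    have h1 : h = g⁻¹ * y ^ k * (g⁻¹)⁻¹ := by rw [hk]; group
    rw [h1, conj_zpow']
    exact zpow_mem (key g⁻¹ (inv_mem hg)) k

/-- primes dividing the order of a centralizer -/
theorem dvd_card_cent_iff {G : Type*} [Group G] [Finite G] {x : G} (hx : (orderOf x).Prime) {q : ℕ} (hq : q.Prime)
    (hne : q ≠ orderOf x) : q ∣ Nat.card (centralizer ({x} : Set G)) → Adj G q (orderOf x) := by
  intro h
  have : Fact q.Prime := ⟨hq⟩
  obtain ⟨u, hu⟩ := exists_prime_orderOf_dvd_card' q h
  exact ⟨hq, hx, hne, u, x, by rw [Subgroup.orderOf_coe, hu], rfl, mem_centralizer_singleton_iff.1 u.2⟩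

/-- the order of a centralizer all of whose primes are in `R` -/
theorem cent_list {G : Type*} [Group G] [Finite G] {R : List ℕ} (hR : ∀ r ∈ R, r.Prime) (hnd : R.Nodup)
    (hsq : ∀ r ∈ R, ¬ r * r ∣ Nat.card G) {x : G} (hx : (orderOf x).Prime)
    (hC : ∀ q : ℕ, q.Prime → q ∣ Nat.card (centralizer ({x} : Set G)) → q ∈ R) :
    ∃ L, L = (R.erase (orderOf x)).filter (fun q => q ∣ Nat.card (centralizer ({x} : Set G))) ∧
      Nat.card (centralizer ({x} : Set G)) = orderOf x * L.prod ∧
      ∃ e, e ∣ orderOf x - 1 ∧ Nat.card (normalizer (zpowers x : Set G)) = orderOf x * L.prod * e ∧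
        orderOf x * L.prod * e ∣ Nat.card G ∧ Nat.card G / (orderOf x * L.prod * e) % orderOf x = 1 % orderOf x := by
  classical
  set n := Nat.card (centralizer ({x} : Set G)) with hn
  set s := orderOf x with hs
  have hn0 : n ≠ 0 := Nat.card_pos.ne'
  have hsn : s ∣ n := by
    have hx' : x ∈ centralizer ({x} : Set G) := by rw [mem_centralizer_singleton_iff]
    have := orderOf_dvd_natCard (⟨x, hx'⟩ : centralizer ({x} : Set G))
    rwa [Subgroup.orderOf_mk] at this
  have hsR : s ∈ R := hC s hx hsn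
  have hsqf : Squarefree n := by
    rw [Nat.squarefree_iff_prime_squarefree]
    intro p hp hpp
    exact hsq p (hC p hp ((dvd_mul_right p p).trans hpp)) (hpp.trans (Subgroup.card_subgroup_dvd_card _))
  set L := (R.erase s).filter (fun q => q ∣ n) with hL
  have hmem : ∀ q, q ∈ L ↔ (q ∈ R ∧ q ≠ s) ∧ q ∣ n := by
    intro q
    rw [hL, List.mem_filter, hnd.mem_erase_iff]
    simp [and_comm]
  have hLnd : (s :: L).Nodup := by
    rw [List.nodup_cons]
    refine ⟨fun h => ((hmem s).1 h).1.2 rfl, (hnd.erase _).filter _⟩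
  have hprod : n = s * L.prod := by
    have h1 : n.primeFactors = (s :: L).toFinset := by
      ext q
      rw [Nat.mem_primeFactors, List.mem_toFinset, List.mem_cons, hmem]
      constructor
      · rintro ⟨hq, hd, -⟩
        by_cases h : q = s
        · exact Or.inl h
        · exact Or.inr ⟨⟨hC q hq hd, h⟩, hd⟩
      · rintro (rfl | ⟨⟨h1, h2⟩, h3⟩)
        · exact ⟨hx, hsn, hn0⟩
        · exact ⟨hR q h1, h3, hn0⟩
    have h2 := Nat.prod_primeFactors_of_squarefree hsqf
    rw [h1, List.prod_toFinset (fun x => x) hLnd, List.map_id'', List.prod_cons] at h2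
    · exact h2.symm
    · intro; rfl
  refine ⟨L, rfl, hprod, ?_⟩
  · obtain ⟨e, h1, h2, h3, h4⟩ := normalizer_arith hx rfl (hsq s hsR)
    rw [← hn, hprod] at h2 h3 h4
    exact ⟨e, h1, h2, h3, h4⟩

/-- the neighbours of `s` divide the order of every centralizer of an element of order `s`, if `s` divides `|G|` once -/
theorem dvd_cent_of_adj {G : Type*} [Group G] [Finite G] {x : G} (hx : (orderOf x).Prime)
    (hsq : ¬ orderOf x * orderOf x ∣ Nat.card G) {q : ℕ} (h : Adj G q (orderOf x)) :
    q ∣ Nat.card (centralizer ({x} : Set G)) := by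
  obtain ⟨hq, -, hne, u, w, hu, hw, hc⟩ := h
  have : Fact (orderOf x).Prime := ⟨hx⟩
  have hsyl : ∀ z : G, orderOf z = orderOf x → ∃ P : Sylow (orderOf x) G, (P : Subgroup G) = zpowers z := by
    intro z hz
    have hcz : Nat.card (zpowers z) = orderOf x := by rw [Nat.card_zpowers, hz]
    have hidx : ¬ orderOf x ∣ (zpowers z).index := by
      intro h
      apply hsq
      rw [← Subgroup.card_mul_index (zpowers z), hcz]
      exact Nat.mul_dvd_mul_left _ h
    have hP : IsPGroup (orderOf x) (zpowers z) := IsPGroup.of_card (n := 1) (by rw [hcz, pow_one])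
    exact ⟨hP.toSylow hidx, rfl⟩
  obtain ⟨P, hP⟩ := hsyl x rfl
  obtain ⟨Q, hQ⟩ := hsyl w hw
  obtain ⟨g, hg⟩ := MulAction.exists_smul_eq G Q P
  -- `g w g⁻¹` generates `⟨x⟩`
  have h1 : g * w * g⁻¹ ∈ zpowers x := by
    rw [← hP, ← hg, Sylow.coe_subgroup_smul, hQ]
    exact Subgroup.smul_mem_pointwise_smul w (MulAut.conj g) _ (mem_zpowers w)
  have h2 : orderOf (g * w * g⁻¹) = orderOf x := by
    rw [← hw]
    exact orderOf_injective (MulAut.conj g).toMonoidHom (MulAut.conj g).injective w
  have h3 : zpowers (g * w * g⁻¹) = zpowers x := by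
    apply Subgroup.eq_of_le_of_card_ge (zpowers_le.2 h1)
    rw [Nat.card_zpowers, Nat.card_zpowers, h2]
  have h4 : x ∈ zpowers (g * w * g⁻¹) := h3 ▸ mem_zpowers x
  obtain ⟨k, hk⟩ := mem_zpowers_iff.1 h4
  have h5 : Commute (g * u * g⁻¹) x := by
    rw [← hk]
    exact Commute.zpow_right (by simpa using hc.map (MulAut.conj g).toMonoidHom) k
  have h6 : orderOf (g * u * g⁻¹) = q := by
    rw [← hu]
    exact orderOf_injective (MulAut.conj g).toMonoidHom (MulAut.conj g).injective u
  have h7 := orderOf_dvd_natCard (⟨g * u * g⁻¹, mem_centralizer_singleton_iff.2 h5⟩ : centralizer ({x} : Set G))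
  rwa [Subgroup.orderOf_mk, h6] at h7

/-- the data of an element of order `s` far from 2 -/
structure FarEl (G : Type*) [Group G] (R : List ℕ) (s : ℕ) (L : List ℕ) : Prop where
  mem : L ∈ (R.erase s).sublists
  adj : ∀ q : ℕ, q ∈ L ↔ Adj G q s
  ex : ∃ x : G, orderOf x = s
  el : ∀ x : G, orderOf x = s → Nat.card (centralizer ({x} : Set G)) = s * L.prod ∧
    ∃ e, e ∣ s - 1 ∧ Nat.card (normalizer (zpowers x : Set G)) = s * L.prod * e ∧
        s * L.prod * e ∣ Nat.card G ∧ Nat.card G / (s * L.prod * e) % s = 1 % s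

theorem exists_farEl {G : Type*} [Group G] [Finite G] {R : List ℕ} (hR : ∀ r ∈ R, r.Prime) (hnd : R.Nodup)
    (hsq : ∀ r ∈ R, ¬ r * r ∣ Nat.card G) (hnr : ∀ r : ℕ, r.Prime → r ∣ Nat.card G → r ∉ R → Nr G r) {f : ℕ → ℕ}
    (hf : ∀ p q, Adj G p q → f p ≤ f q + 1) {s : ℕ} (hs : s.Prime) (hd : s ∣ Nat.card G)
    (hfar : f s + 3 ≤ f 2 ∨ f 2 + 3 ≤ f s) : ∃ L, FarEl G R s L := by
  classical
  have : Fact s.Prime := ⟨hs⟩
  obtain ⟨x0, hx0⟩ := exists_prime_orderOf_dvd_card' s hd
  have hC : ∀ x : G, orderOf x = s → ∀ q : ℕ, q.Prime → q ∣ Nat.card (centralizer ({x} : Set G)) → q ∈ R := by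
    intro x hx q hq hqd
    by_contra hqR
    have h1 : q = s ∨ Adj G q s := by
      by_cases h : q = s
      · exact Or.inl h
      · subst hx
        exact Or.inr (dvd_card_cent_iff hs hq h hqd)
    have h2 : f q ≤ f s + 1 ∧ f s ≤ f q + 1 := by
      rcases h1 with h1 | h1
      · rw [h1]; omega
      · exact ⟨hf _ _ h1, hf _ _ h1.symm⟩
    have h3 : f q ≤ f 2 + 1 ∧ f 2 ≤ f q + 1 := by
      rcases hnr q hq (hqd.trans (Subgroup.card_subgroup_dvd_card _)) hqR with h3 | h3
      · rw [h3]; omega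
      · exact ⟨hf _ _ h3, hf _ _ h3.symm⟩
    omega
  have hsR : s ∈ R := by
    apply hC x0 hx0 s hs
    have hx' : x0 ∈ centralizer ({x0} : Set G) := by rw [mem_centralizer_singleton_iff]
    have := orderOf_dvd_natCard (⟨x0, hx'⟩ : centralizer ({x0} : Set G))
    rwa [Subgroup.orderOf_mk, hx0] at this
  have hiff : ∀ x : G, orderOf x = s → ∀ q ∈ R.erase s, (q ∣ Nat.card (centralizer ({x} : Set G)) ↔ Adj G q s) := by
    intro x hx q hq
    have hq' := (hnd.mem_erase_iff).1 hq
    constructor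
    · intro h
      subst hx
      exact dvd_card_cent_iff hs (hR q hq'.2) hq'.1 h
    · intro h
      subst hx
      exact dvd_cent_of_adj hs (hsq _ hsR) h
  refine ⟨(R.erase s).filter fun q => Adj G q s, List.mem_sublists.2 List.filter_sublist, ?_, ⟨x0, hx0⟩, ?_⟩
  · intro q
    rw [List.mem_filter, hnd.mem_erase_iff]
    constructor
    · rintro ⟨-, h⟩
      exact of_decide_eq_true h
    · intro h
      have hqd : q ∣ Nat.card (centralizer ({x0} : Set G)) := by
        have h' := h
        rw [← hx0] at h'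
        exact dvd_cent_of_adj (hx0 ▸ hs) (hx0 ▸ hsq _ hsR) h'
      exact ⟨⟨h.2.2.1, hC x0 hx0 q h.1 hqd⟩, decide_eq_true h⟩
  · intro x hx
    obtain ⟨L, h1, h4, h5⟩ := cent_list hR hnd hsq (x := x) (hx ▸ hs) (hC x hx)
    have h6 : L = (R.erase s).filter fun q => Adj G q s := by
      rw [h1, hx]
      apply List.filter_congr
      intro q hq
      rw [decide_eq_decide]
      exact hiff x hx q hq
    rw [h6, hx] at h4 h5
    exact ⟨h4, h5⟩

theorem FarEl.adm {G : Type*} [Group G] [Finite G] {R : List ℕ} {s : ℕ} {L : List ℕ} (h : FarEl G R s L) (hs : s.Prime) :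
    Adm (Nat.card G) s L := by
  obtain ⟨x, hx⟩ := h.ex
  obtain ⟨hc, e, h1, h2, h3, h4⟩ := h.el x hx
  refine ⟨e, ?_, h1, h3, h4⟩
  rw [List.mem_range]
  have := Nat.le_of_dvd (by have := hs.two_le; omega) h1
  have := hs.two_le
  omega

/-- cyclic centralizers: the neighbours of `s` are adjacent -/
theorem FarEl.adj_of_cop {G : Type*} [Group G] [Finite G] {R : List ℕ} {s : ℕ} {L : List ℕ} (h : FarEl G R s L)
    (hsqf : Squarefree L.prod) (hcop : L.prod.Coprime L.prod.totient) {p q : ℕ} (hp : p ∈ L) (hq : q ∈ L)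
    (hne : p ≠ q) : Adj G p q := by
  obtain ⟨x, hx⟩ := h.ex
  obtain ⟨hc, -⟩ := h.el x hx
  have hpp := ((h.adj p).1 hp).1
  have hqp := ((h.adj q).1 hq).1
  have f1 : Fact p.Prime := ⟨hpp⟩
  have f2 : Fact q.Prime := ⟨hqp⟩
  obtain ⟨u, hu⟩ := exists_prime_orderOf_dvd_card' (G := centralizer ({x} : Set G)) p (by
    rw [hc]; exact (List.dvd_prod hp).trans (dvd_mul_left _ _))
  obtain ⟨w, hw⟩ := exists_prime_orderOf_dvd_card' (G := centralizer ({x} : Set G)) q (by
    rw [hc]; exact (List.dvd_prod hq).trans (dvd_mul_left _ _))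
  let z : centralizer ({x} : Set G) := ⟨x, by rw [mem_centralizer_singleton_iff]⟩
  have hz : ∀ g : centralizer ({x} : Set G), g * z = z * g := fun g =>
    Subtype.ext (mem_centralizer_singleton_iff.1 g.2)
  have h3 := comm_of_central' hz hsqf hcop (by rw [hc]; congr 1; rw [Subgroup.orderOf_mk, hx]) u w
  exact ⟨hpp, hqp, hne, u, w, by rw [Subgroup.orderOf_coe, hu], by rw [Subgroup.orderOf_coe, hw],
    congrArg Subtype.val h3⟩

/-- the centralizer is cyclic -/
theorem isCyclic_of_card' {C : Type*} [Group C] [Finite C] {n : ℕ} (h : Nat.card C = n) (hsqf : Squarefree n)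
    (hcop : n.Coprime n.totient) : IsCyclic C :=
  isCyclic_of_card (h ▸ hsqf) (h ▸ hcop)

end Cfsg.Agent.H564.SporRow
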