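import Cfsg.Agent.H388.EvenFix

/-!
# Every automorphism fixes some class of involutions (helper564, for S4313)

* `exists_class` : `G` a finite group acting on a set `C`, `O` a symmetric irreflexive relation such that `G` is
  transitive on the pairs `(x, y)` with `O x y`; `τ` an automorphism of `G` with a compatible permutation `θ` of `C`
  preserving `O`: then there is an involution `g` of `G` such that `τ g` is conjugate to `g`. (Count the triples
  `(g, x, y)` with `O x y`, `g θ x = x`, `g θ y = y`: there are `|G|`, and if the twisted centralizers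
  `{k | k g τ(k)⁻¹ = g}` were of odd order, a Sylow 2-subgroup `Q` would act freely, and the exchange of `x` and `y`
  would be free on the orbits of `Q`.)
* `exists_class_of_hasSplit` : every automorphism of a finite group with a split (B,N)-pair maps some involution to a
  conjugate of it.
-/

set_option autoImplicit false

open scoped Pointwise

namespace Cfsg.Agent.H564.TwistedClass

universe u v

section

variable {G : Type u} [Group G] [Finite G] {C : Type v} [MulAction G C]

theorem exists_class (τ : MulAut G) (θ : C → C) (hθ : ∀ (g : G) (x : C), θ (g • x) = τ g • θ x)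
    (O : C → C → Prop) (hsymm : ∀ x y, O x y → O y x) (hirr : ∀ x, ¬ O x x)
    (hθO : ∀ x y, O x y → O (θ x) (θ y)) (hGO : ∀ (g : G) (x y : C), O x y → O (g • x) (g • y))
    (htr : ∀ x y x' y' : C, O x y → O x' y' → ∃ g : G, g • x = x' ∧ g • y = y')
    (hne : ∃ x y : C, O x y) : ∃ s g : G, orderOf g = 2 ∧ s * τ g * s⁻¹ = g := by
  classical
  have h2 : Fact (Nat.Prime 2) := ⟨Nat.prime_two⟩
  by_contra hcon
  push Not at hcon
  obtain ⟨x0, y0, h0⟩ := hne
  -- elements carrying `(x0, y0)` to a given pair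
  have hc : ∀ x y : C, ∃ c : G, O x y → c • x0 = x ∧ c • y0 = y := by
    intro x y
    by_cases h : O x y
    · obtain ⟨g, hg⟩ := htr x0 y0 x y h0 h
      exact ⟨g, fun _ => hg⟩
    · exact ⟨1, fun h' => absurd h' h⟩
  choose c hc using hc
  let T := {v : G × C × C // O v.2.1 v.2.2 ∧ v.1 • θ v.2.1 = v.2.1 ∧ v.1 • θ v.2.2 = v.2.2}
  -- `T` has `|G|` elements
  let e : T ≃ G :=
    { toFun := fun v => v.1.1 * c (θ v.1.2.1) (θ v.1.2.2)
      invFun := fun k => ⟨(k * (c (θ (k • x0)) (θ (k • y0)))⁻¹, k • x0, k • y0), by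
        have h1 := hGO k _ _ h0
        have h3 := hc _ _ (hθO _ _ h1)
        refine ⟨h1, ?_, ?_⟩
        · change (k * (c (θ (k • x0)) (θ (k • y0)))⁻¹) • θ (k • x0) = k • x0
          rw [mul_smul]
          congr 1
          rw [inv_smul_eq_iff]
          exact h3.1.symm
        · change (k * (c (θ (k • x0)) (θ (k • y0)))⁻¹) • θ (k • y0) = k • y0
          rw [mul_smul]
          congr 1
          rw [inv_smul_eq_iff]
          exact h3.2.symm⟩
      left_inv := by
        rintro ⟨⟨g, x, y⟩, h1, h3, h4⟩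
        have h5 := hc _ _ (hθO _ _ h1)
        have hx : (g * c (θ x) (θ y)) • x0 = x := by rw [mul_smul, h5.1]; exact h3
        have hy : (g * c (θ x) (θ y)) • y0 = y := by rw [mul_smul, h5.2]; exact h4
        apply Subtype.ext
        change ((g * c (θ x) (θ y)) * (c (θ ((g * c (θ x) (θ y)) • x0)) (θ ((g * c (θ x) (θ y)) • y0)))⁻¹,
          (g * c (θ x) (θ y)) • x0, (g * c (θ x) (θ y)) • y0) = (g, x, y)
        rw [hx, hy, mul_inv_cancel_right]
      right_inv := by
        intro k
        change k * (c (θ (k • x0)) (θ (k • y0)))⁻¹ * c (θ (k • x0)) (θ (k • y0)) = k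
        rw [inv_mul_cancel_right] }
  have hTfin : Finite T := Finite.of_equiv G e.symm
  -- the action of `G` on `T`
  let actG : MulAction G T :=
    { smul := fun k v => ⟨(k * v.1.1 * (τ k)⁻¹, k • v.1.2.1, k • v.1.2.2), by
        obtain ⟨h1, h3, h4⟩ := v.2
        refine ⟨hGO k _ _ h1, ?_, ?_⟩
        · change (k * v.1.1 * (τ k)⁻¹) • θ (k • v.1.2.1) = k • v.1.2.1
          rw [hθ, mul_smul, inv_smul_smul, mul_smul, h3]
        · change (k * v.1.1 * (τ k)⁻¹) • θ (k • v.1.2.2) = k • v.1.2.2
          rw [hθ, mul_smul, inv_smul_smul, mul_smul, h4]⟩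
      one_smul := fun v => by
        apply Subtype.ext
        change (1 * v.1.1 * (τ 1)⁻¹, (1 : G) • v.1.2.1, (1 : G) • v.1.2.2) = v.1
        rw [map_one, one_smul, one_smul, inv_one, mul_one, one_mul]
      mul_smul := fun k l v => by
        apply Subtype.ext
        change (k * l * v.1.1 * (τ (k * l))⁻¹, (k * l) • v.1.2.1, (k * l) • v.1.2.2) =
          (k * (l * v.1.1 * (τ l)⁻¹) * (τ k)⁻¹, k • l • v.1.2.1, k • l • v.1.2.2)
        rw [map_mul, mul_inv_rev, mul_smul, mul_smul]
        congr 1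
        group }
  have hsm : ∀ (k : G) (v : T), (k • v).1 = (k * v.1.1 * (τ k)⁻¹, k • v.1.2.1, k • v.1.2.2) := fun k v => rfl
  obtain ⟨Q⟩ : Nonempty (Sylow 2 G) := inferInstance
  -- elements of `Q` with `k g τ(k)⁻¹ = g` are trivial
  have key : ∀ (k : ↥(Q : Subgroup G)) (g : G), (k : G) * g * (τ k)⁻¹ = g → k = 1 := by
    intro k g hk
    by_contra hk1
    obtain ⟨n, hn⟩ := Q.2 k
    have hk2 : orderOf (k : G) ∣ 2 ^ n := by
      apply orderOf_dvd_of_pow_eq_one
      have := congrArg Subtype.val hn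
      simpa using this
    have hk3 : (k : G) ≠ 1 := fun h => hk1 (Subtype.ext h)
    obtain ⟨m, -, hm⟩ := (Nat.dvd_prime_pow Nat.prime_two).1 hk2
    have hm0 : m ≠ 0 := by
      rintro rfl
      rw [pow_zero, orderOf_eq_one_iff] at hm
      exact hk3 hm
    have hd : 2 ∣ orderOf (k : G) := by rw [hm]; exact dvd_pow_self 2 hm0
    have ho := orderOf_pow_orderOf_div (orderOf_pos (k : G)).ne' hd
    refine hcon g ((k : G) ^ (orderOf (k : G) / 2)) ho ?_
    have h3 : g * τ k * g⁻¹ = k := by
      have h4 : (k : G) * g = g * τ k := by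
        rw [mul_inv_eq_iff_eq_mul] at hk
        exact hk
      rw [← h4]; group
    have h5 : ∀ j : ℕ, g * τ ((k : G) ^ j) * g⁻¹ = (k : G) ^ j := by
      intro j
      rw [map_pow]
      have : g * (τ (k : G)) ^ j * g⁻¹ = (g * τ (k : G) * g⁻¹) ^ j := by
        rw [conj_pow]
      rw [this, h3]
    exact h5 _
  have hfree : ∀ v : T, MulAction.stabilizer ↥(Q : Subgroup G) v = ⊥ := by
    intro v
    rw [eq_bot_iff]
    intro k hk
    rw [MulAction.mem_stabilizer_iff] at hk
    have h1 : ((k : G) • v).1 = v.1 := congrArg Subtype.val hk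
    rw [hsm] at h1
    rw [Subgroup.mem_bot]
    exact key k v.1.1 (congrArg Prod.fst h1)
  let Ω := Quotient (MulAction.orbitRel ↥(Q : Subgroup G) T)
  have hcard : Nat.card T = Nat.card Ω * Nat.card ↥(Q : Subgroup G) := by
    rw [← Nat.card_prod]
    exact Nat.card_congr (MulAction.selfEquivOrbitsQuotientProd hfree)
  -- the exchange
  let sw : T → T := fun v => ⟨(v.1.1, v.1.2.2, v.1.2.1), hsymm _ _ v.2.1, v.2.2.2, v.2.2.1⟩
  have hsw : ∀ v, sw (sw v) = v := fun v => rfl
  let f : Ω → Ω := Quotient.map sw (by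
    rintro v w ⟨k, hk⟩
    refine ⟨k, ?_⟩
    have hk' : (k : G) • w = v := hk
    change (k : G) • sw w = sw v
    rw [← hk']
    rfl)
  have hf : f^[2] = id := by
    funext w
    induction w using Quotient.inductionOn with
    | _ v => rfl
  have hnofix : ∀ w : Ω, f w ≠ w := by
    intro w
    induction w using Quotient.inductionOn with
    | _ v =>
      intro h
      have h1 : (MulAction.orbitRel ↥(Q : Subgroup G) T) (sw v) v := Quotient.exact h
      obtain ⟨k, hk⟩ := h1
      have hk' : (k : G) • v = sw v := hk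
      have h3 : ((k : G) • v).1 = (sw v).1 := congrArg Subtype.val hk'
      rw [hsm] at h3
      have h4 : k = 1 := key k v.1.1 (congrArg Prod.fst h3)
      rw [h4] at h3
      have h5 : (1 : G) • v.1.2.1 = v.1.2.2 := congrArg (fun z => z.2.1) h3
      rw [one_smul] at h5
      have h6 := v.2.1
      rw [h5] at h6
      exact hirr _ h6
  have hΩfin : Finite Ω := Quotient.finite _
  have heven : 2 ∣ Nat.card Ω := by
    have h1 := Cfsg.Agent.FixOdd.Tw.card_fixed_modEq (r := 2) f hf
    have h3 : Nat.card {w : Ω // f w = w} = 0 := by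
      have : IsEmpty {w : Ω // f w = w} := ⟨fun w => hnofix w.1 w.2⟩
      exact Nat.card_of_isEmpty
    rw [h3] at h1
    exact (Nat.modEq_zero_iff_dvd).1 h1
  have hG : Nat.card G = Nat.card Ω * Nat.card ↥(Q : Subgroup G) := by
    rw [← hcard]
    exact (Nat.card_congr e).symm
  have hidx : (Q : Subgroup G).index = Nat.card Ω := by
    have h1 := (Q : Subgroup G).index_mul_card
    rw [hG] at h1
    exact Nat.eq_of_mul_eq_mul_right Nat.card_pos h1
  exact Q.not_dvd_index (hidx ▸ heven)

end

open Cfsg.Agent.Tits.Core Cfsg.Agent.Tits.Core.Bldg Cfsg.Agent.Tits Cfsg.Agent.Tits.Opp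
open Cfsg.Agent.FixBN (Sys HasSplit Split)
open Cfsg.Agent.FixOdd

/-- **Every automorphism of a finite group with a split (B,N)-pair maps some involution to a conjugate.** -/
theorem exists_class_of_hasSplit {K : Type u} [Group K] [Finite K] {p : ℕ} [hp : Fact p.Prime]
    (h : HasSplit p K) (x : MulAut K) : ∃ s g : K, orderOf g = 2 ∧ s * x g * s⁻¹ = g := by
  obtain ⟨P, U, hne, h⟩ := h
  have hN : ((P.B ⊓ P.N).subgroupOf P.N).Normal := Cfsg.Agent.Tits.OfBN.normal_subgroupOf P
  obtain ⟨M, cs, hcs⟩ := Cfsg.Agent.S0320.result P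
  obtain ⟨t, ht, hto⟩ := exists_tw h (Equiv.refl P.S) cs hcs x
  have hI : Finite P.S := FixBN.OfBN.finite_I (Equiv.refl P.S)
  have hIn : Nonempty P.S := hne.to_subtype
  let S := FixBN.OfBN.sys (Equiv.refl P.S) cs hcs h
  let Δ := Cfsg.Agent.Tits.OfBN.bldg P (Equiv.refl P.S) cs hcs
  have F : OppRes.Cox cs := inferInstance
  have hw0 : (w0 cs) ≠ 1 := by
    intro h
    obtain ⟨i⟩ := hIn
    have h1 := F.len_w0_mul (cs.simple i)
    rw [h, one_mul, cs.length_one, cs.length_simple] at h1
    omega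
  have htr : ∀ a b : K ⧸ P.B, ∃ g : K, g • a = b := by
    intro a b
    induction a using QuotientGroup.induction_on with
    | _ a =>
    induction b using QuotientGroup.induction_on with
    | _ b =>
    exact ⟨b * a⁻¹, by rw [FixBN.OfBN.smul_mk, inv_mul_cancel_right]⟩
  have hGO : ∀ (g : K) (a b : K ⧸ P.B), Δ.Opp a b → Δ.Opp (g • a) (g • b) := by
    intro g a b hab
    change Δ.δ (g • a) (g • b) = w0 cs
    rw [S.iso]
    exact hab
  refine exists_class x t.θ (fun g a => by rw [t.θ_smul, ht]) (fun a b => Δ.Opp a b)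
    (fun a b hab => opp_symm Δ hab) ?_ ?_ hGO ?_ ?_
  · intro a ha
    have h1 : Δ.δ a a = w0 cs := ha
    rw [(Δ.eq_one a a).2 rfl] at h1
    exact hw0 h1.symm
  · intro a b hab
    change Δ.δ (t.θ a) (t.θ b) = w0 cs
    rw [t.δ_θ]
    have h1 : Δ.δ a b = w0 cs := hab
    rw [h1]
    exact Cox.map_wJ t.φ_simple (J := Set.univ) (fun _ _ => trivial)
  · intro a b a' b' hab hab'
    obtain ⟨g, hg⟩ := htr a a'
    have h1 := hGO g a b hab
    rw [hg] at h1
    obtain ⟨u, hu, huy⟩ := S.trans a' (g • b) b' h1 hab'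
    exact ⟨u * g, by rw [mul_smul, hg, S.fix a' u hu], by rw [mul_smul, huy]⟩
  · obtain ⟨b, hb⟩ := exists_opp Δ (QuotientGroup.mk (1 : K) : K ⧸ P.B)
    exact ⟨_, b, hb⟩

end Cfsg.Agent.H564.TwistedClass
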